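import Cfsg.Agent.H289.Tri.Std

/-!
# Triality: no fixed chamber in cross characteristic (helper289, task AA-TRI)

If `t` fixes a chamber it fixes an apartment, acts on it as the diagram automorphism and `Psi t.τ m`, `m` in the
stabiliser of the apartment mapped to `s_a s_1 s_b`, acts as `-1`: not a `3`-element.
-/

set_option autoImplicit false
set_option linter.unusedSectionVars false

open scoped Pointwise

namespace Cfsg.Agent.H289.Tri

open CoxeterSystem Cfsg.Agent.ChevalleyStructure.CoxeterGeom Cfsg.Agent.Tits.Roots Cfsg.Agent.Tits.Core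
  Cfsg.Agent.Tits.RootComb Cfsg.Agent.Nodes Cfsg.Agent.Nodes.Comb Cfsg.Agent.Nodes.Reps Cfsg.Agent.Nodes.BNOf
  Cfsg.Agent.Nodes.BNOf.RGD
  Cfsg.Agent.FixBN Cfsg.Agent.Tits.OfBN Cfsg.Agent.Tits.OppRes Cfsg.Agent.LieExceptional.BNPairCore
  Cfsg.Agent.OddHalf.Table.AutBldg Cfsg.Agent.OddHalf.Table.AutRGD Cfsg.Agent.OddHalf.Table.AutNorm
  Cfsg.Agent.Tits Cfsg.Agent.Nodes.RGDLib Cfsg.Agent.UGT.U2.FOne
open Cfsg.Agent.Tits.Core.Bldg Cfsg.Agent.H460.AA

variable {W Y : Type*} [Group W] [Group Y]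
  {cs : CoxeterSystem (TypeD.M 2) W} {A : Fin 4 → Fin 4 → ℤ} {h : IsCartan (TypeD.M 2) A} {l : ℕ}
  {T : Subgroup Y} {n : Fin 4 → Y} {X : (Fin 4 → ℤ) → Subgroup Y} [Finite W]

variable (R : RGD cs h l T n X) (hgen : B cs h T X ⊔ NN cs R.nsys = ⊤)
  [hN : (((R.bnPair hgen).B ⊓ (R.bnPair hgen).N).subgroupOf (R.bnPair hgen).N).Normal]
  (cs' : CoxeterSystem (TypeD.M 2) (WP (R.bnPair hgen)))
  (hcs : ∀ i, cs'.simple i = QuotientGroup.mk
    (⟨(eS R hgen i : Y), (R.bnPair hgen).subset (eS R hgen i).2⟩ : (R.bnPair hgen).N))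

/-- `g` acts as `w` on the standard apartment. -/
def Ac (g : Y) (w : W) : Prop :=
  ∀ (v : W) (k k' : Y), Rp cs R.nsys v k → Rp cs R.nsys (w * v) k' → g • ch R hgen k = ch R hgen k'

variable {R hgen}

omit hN in
theorem ac_rp {w : W} {g : Y} (hg : Rp cs R.nsys w g) : Ac R hgen g w := fun _ _ _ hk hk' =>
  ch_rp R hgen (hg.mul hk) hk'

omit hN in
theorem Ac.mul {w w' : W} {g g' : Y} (h1 : Ac R hgen g w) (h2 : Ac R hgen g' w') : Ac R hgen (g * g') (w * w') := by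
  intro v k k' hk hk'
  obtain ⟨k1, hk1⟩ := exists_rp cs R.nsys (w' * v)
  rw [mul_smul, h2 v k k1 hk hk1, h1 (w' * v) k1 k' hk1 (by rw [← mul_assoc]; exact hk')]

omit hN in
theorem Ac.inv {w : W} {g : Y} (h1 : Ac R hgen g w) : Ac R hgen g⁻¹ w⁻¹ := by
  intro v k k' hk hk'
  rw [inv_smul_eq_iff]
  exact (h1 (w⁻¹ * v) k' k hk' (by rw [mul_inv_cancel_left]; exact hk)).symm

omit hN in
theorem ac_one : Ac R hgen (1 : Y) (1 : W) := ac_rp rp_one

omit hN in
theorem Ac.pow {w : W} {g : Y} (h1 : Ac R hgen g w) (m : ℕ) : Ac R hgen (g ^ m) (w ^ m) := by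
  induction m with
  | zero => rw [pow_zero, pow_zero]; exact ac_one
  | succ m ih => rw [pow_succ, pow_succ]; exact ih.mul h1

include cs' hcs in
theorem Ac.eq_one {w : W} (h1 : Ac R hgen (1 : Y) w) : w = 1 := by
  obtain ⟨k, hk⟩ := exists_rp cs R.nsys w
  have h2 := h1 1 1 k rp_one (by rw [mul_one]; exact hk)
  rw [one_smul] at h2
  have h3 := δ_rp R hgen cs' hcs (rp_one) hk
  rw [← h2, Bldg.δ_self, inv_one, one_mul] at h3
  exact (fw cs cs').injective (by rw [← h3, map_one])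

/-- **No fixed chamber.** -/
theorem no_fixed [Fact l.Prime] [Finite Y] (hcore : (B cs h T X).normalCore = ⊥)
    (hc : Subgroup.center Y = ⊥) (hl3 : l ≠ 3) {t : FixOdd.Tw (Bl R hgen cs' hcs) Y} {a b c : Fin 4}
    (D : TriD t a b c) (hPA : PA 3 t.τ) {y : Y ⧸ (R.bnPair hgen).B} (hy : t.θ y = y) : False := by
  have hW : Finite (WP (R.bnPair hgen)) := inferInstance
  have hC : Cox cs := inferInstance
  have hC' : Cox cs' := inferInstance
  set S := Sy R hgen cs' hcs hcore with hS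
  -- standard position
  obtain ⟨z, hyz, hz⟩ := exists_opp S hl3 D hy
  obtain ⟨m0, hm0⟩ := exists_rp cs R.nsys (w0 cs)
  have h0 : (Bl R hgen cs' hcs).δ (ch R hgen 1) (ch R hgen m0) = w0 cs' := by
    rw [δ_rp R hgen cs' hcs rp_one hm0, inv_one, one_mul]
    exact fw_wJ cs cs' Set.univ
  obtain ⟨g, hg1, hg2⟩ := Tits.OfBN.trans (R.bnPair hgen) (ch R hgen 1) (ch R hgen m0) y z
    (h0.trans (show w0 cs' = _ from hyz.symm))
  have D' := D.cj S g
  have hPA' := cj_PA S t g hPA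
  have e1 : (cj S t g).θ (ch R hgen 1) = ch R hgen 1 := by
    rw [cj_θ, hg1, hy, ← hg1, inv_smul_smul]
  have e2 : (cj S t g).θ (ch R hgen m0) = ch R hgen m0 := by
    rw [cj_θ, hg2, hz, ← hg2, inv_smul_smul]
  generalize cj S t g = u at *
  -- the action on the apartment
  let m : Mv (Bl R hgen cs' hcs) Y := ⟨u.τ, u.θ, u.φ, u.σ, u.φ_simple, u.δ_θ, u.θ_smul⟩
  set ψ := tr cs cs' u.φ with hψ
  have hψs : ∀ ω : List (Fin 4), ψ (cs.wordProd ω) = cs.wordProd (ω.map u.σ) := by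
    intro ω
    exact FixBN.Cox.map_wordProd (tr_simple cs cs' u.φ_simple) ω
  have hA : ∀ (w : W) (k k' : Y), Rp cs R.nsys w k → Rp cs R.nsys (ψ w) k' →
      u.θ (ch R hgen k) = ch R hgen k' := by
    intro w k k' hk hk'
    exact map_ch R hgen cs' hcs m (a := 1) (ka := 1) (m0 := m0) (m0' := m0) u.σ.surjective rp_one e1 hm0
      (by rw [one_mul]; exact hm0) e2 hk (by rw [one_mul]; exact hk')
  have hmap : ∀ {w : W} {g : Y}, Ac R hgen g w → Ac R hgen (u.τ g) (ψ w) := by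
    intro w g hg v k k' hk hk'
    obtain ⟨k0, hk0⟩ := exists_rp cs R.nsys (ψ.symm v)
    obtain ⟨k1, hk1⟩ := exists_rp cs R.nsys (w * ψ.symm v)
    rw [← hA _ k0 k hk0 (by rw [ψ.apply_symm_apply]; exact hk), ← u.θ_smul, hg _ k0 k1 hk0 hk1]
    refine hA _ k1 k' hk1 ?_
    rw [map_mul, ψ.apply_symm_apply]
    exact hk'
  -- the element
  obtain ⟨k, hk⟩ := exists_rp cs R.nsys (cs.wordProd [a, 1, b])
  have a0 : Ac R hgen k (cs.wordProd [a, 1, b]) := ac_rp hk
  have a1 : Ac R hgen (u.τ k) (cs.wordProd [b, 1, c]) := by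
    have := hmap a0
    rw [hψs] at this
    simpa [D'.ab, D'.bc, D'.one] using this
  have a2 : Ac R hgen (u.τ (u.τ k)) (cs.wordProd [c, 1, a]) := by
    have := hmap a1
    rw [hψs] at this
    simpa [D'.bc, D'.ca, D'.one] using this
  have hPsi := ((((a1.mul a2.inv).mul a0).mul a1.inv).mul a2).mul a0.inv
  change Ac R hgen (Psi u.τ k) _ at hPsi
  rw [← cs.wordProd_reverse, ← cs.wordProd_reverse, ← cs.wordProd_reverse, ← cs.wordProd_append,
    ← cs.wordProd_append, ← cs.wordProd_append, ← cs.wordProd_append, ← cs.wordProd_append] at hPsi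
  obtain ⟨N, hN3, hN⟩ : ∃ N : ℕ, Odd N ∧ Psi u.τ k ^ N = 1 := by
    obtain ⟨j, hj⟩ := pe_psi D'.τ3 hc hPA' k
    exact ⟨3 ^ j, Odd.pow (by decide), by rw [← hj]; exact pow_orderOf_eq_one _⟩
  have hfin := hPsi.pow N
  rw [hN] at hfin
  have h1 := Ac.eq_one cs' hcs hfin
  -- `-1`
  have hneg : ∀ a b c : Fin 4, Out a b c → ∀ i, act ([b, 1, c] ++ [c, 1, a].reverse ++ [a, 1, b] ++
      [b, 1, c].reverse ++ [c, 1, a] ++ [a, 1, b].reverse) (Pi.single 1 1) i = (Pi.single 1 (-1) : Fin 4 → ℤ) i := by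
    decide
  have h2 := funext (hneg a b c D'.out)
  rw [← rep_word cs h] at h2
  generalize cs.wordProd _ = w at h1 h2
  have h3 : (Pi.single 1 (-1) : Fin 4 → ℤ) = - Pi.single 1 1 := by
    funext i; fin_cases i <;> rfl
  rw [h3] at h2
  have h4 : ∀ m : ℕ, rep cs h (w ^ m) (Pi.single 1 1) = (-1 : ℤ) ^ m • (Pi.single 1 1 : Fin 4 → ℤ) := by
    intro m
    induction m with
    | zero => simp
    | succ m ih =>
      rw [pow_succ, rep_mul_apply, h2, map_neg, ih, pow_succ]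
      simp
  have h5 := h4 N
  rw [h1, map_one, Module.End.one_apply, hN3.neg_one_pow] at h5
  have h6 := congrFun h5 1
  simp at h6

end Cfsg.Agent.H289.Tri
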