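import Cfsg.Agent.H289.Tri.ThreeB
import Cfsg.Agent.H289.Tri.Apt
import Cfsg.Agent.H460.Eng

/-!
# Triality: conclusion (helper289, task AA-TRI)

* `exists_eng_tri`, `exists_engF_tri` : `K` simple with a typed root group datum of type `D₄`: an automorphism `x` with
  `x ^ 3 = 1` and `PA 3 x` preserves the types.
-/

set_option autoImplicit false
set_option linter.unusedSectionVars false

open scoped Pointwise

namespace Cfsg.Agent.H289.Tri

open CoxeterSystem Cfsg.Agent.ChevalleyStructure.CoxeterGeom Cfsg.Agent.Tits.Roots Cfsg.Agent.Tits.Core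
  Cfsg.Agent.Tits.RootComb Cfsg.Agent.Nodes Cfsg.Agent.Nodes.Comb Cfsg.Agent.Nodes.Reps Cfsg.Agent.Nodes.BNOf
  Cfsg.Agent.Nodes.BNOf.RGD
  Cfsg.Agent.FixBN Cfsg.Agent.Tits.OfBN Cfsg.Agent.Tits.OppRes Cfsg.Agent.LieExceptional.BNPairCore
  Cfsg.Agent.OddHalf.Table.AutBldg Cfsg.Agent.OddHalf.Table.AutRGD Cfsg.Agent.OddHalf.Table.AutNorm
  Cfsg.Agent.Tits Cfsg.Agent.Nodes.RGDLib Cfsg.Agent.UGT.U2.FOne
open Cfsg.Agent.Tits.Core.Bldg Cfsg.Agent.H460.AA Cfsg.Agent.H460.Engine Cfsg.Agent.H460.Typed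
  Cfsg.Agent.H185.TypedTw

/-- the Coxeter matrix -/
def Mf (i j : Fin 4) : ℕ := if i = j then 1 else if i = 1 ∨ j = 1 then 3 else 2

theorem comb4 : ∀ x0 x1 x2 x3 : Fin 4, (∀ i j, Mf (![x0, x1, x2, x3] i) (![x0, x1, x2, x3] j) = Mf i j) →
    (∀ i, (![x0, x1, x2, x3] : Fin 4 → Fin 4) (![x0, x1, x2, x3] (![x0, x1, x2, x3] i)) = i) →
    (∃ i, (![x0, x1, x2, x3] : Fin 4 → Fin 4) i ≠ i) →
    Out 0 x0 (![x0, x1, x2, x3] x0) ∧ x1 = 1 := by
  decide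

theorem comb {f : Fin 4 → Fin 4} (hM : ∀ i j, TypeD.M 2 (f i) (f j) = TypeD.M 2 i j) (h3 : ∀ i, f (f (f i)) = i)
    (hne : ∃ i, f i ≠ i) : Out 0 (f 0) (f (f 0)) ∧ f 1 = 1 := by
  have hf : f = ![f 0, f 1, f 2, f 3] := by
    funext i; fin_cases i <;> rfl
  have h1 := comb4 (f 0) (f 1) (f 2) (f 3)
  rw [← hf] at h1
  refine h1 (fun i j => ?_) h3 hne
  have := hM i j
  rw [M_eq, M_eq] at this
  exact this

section

variable {W Y : Type*} [Group W] [Group Y]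
  {cs : CoxeterSystem (TypeD.M 2) W} {A : Fin 4 → Fin 4 → ℤ} {h : IsCartan (TypeD.M 2) A} {l : ℕ}
  {T : Subgroup Y} {n : Fin 4 → Y} {X : (Fin 4 → ℤ) → Subgroup Y} [Finite W]

variable {R : RGD cs h l T n X} {hgen : B cs h T X ⊔ NN cs R.nsys = ⊤}
  [hN : (((R.bnPair hgen).B ⊓ (R.bnPair hgen).N).subgroupOf (R.bnPair hgen).N).Normal]
  (cs' : CoxeterSystem (TypeD.M 2) (WP (R.bnPair hgen)))
  (hcs : ∀ i, cs'.simple i = QuotientGroup.mk
    (⟨(eS R hgen i : Y), (R.bnPair hgen).subset (eS R hgen i).2⟩ : (R.bnPair hgen).N))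

/-- **No triality.** -/
theorem no_tri [Fact l.Prime] [Finite Y] (hcore : (B cs h T X).normalCore = ⊥)
    (hc : Subgroup.center Y = ⊥) {Q : Fin 4 → ℕ} (hn : ∀ i, LNode (R.bnPair hgen) (Sup X (Pos cs h)) (n i) (Q i))
    {t : FixOdd.Tw (Bl R hgen cs' hcs) Y} (hPA : PA 3 t.τ) (hτ : t.τ ^ 3 = 1) (hθ : t.θ ^ 3 = 1) (i : Fin 4) :
    t.σ i = i := by
  by_contra hi
  have hW : Finite (WP (R.bnPair hgen)) := inferInstance
  have hC : Cox cs := inferInstance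
  have hC' : Cox cs' := inferInstance
  have : Fact (Nat.Prime 3) := ⟨Nat.prime_three⟩
  have hth : (Bl R hgen cs' hcs).Thick := thick (R.bnPair hgen) (eS R hgen) cs' hcs
  have S := Sy R hgen cs' hcs hcore
  -- the type permutation
  have hne : Nonempty (Y ⧸ (R.bnPair hgen).B) := ⟨QuotientGroup.mk 1⟩
  have hσ := FixOdd.Tw.σ_pow (t := t) hθ
  have hσ3 : ∀ i, t.σ (t.σ (t.σ i)) = i := fun i => by
    have := congrArg (fun f : Equiv.Perm (Fin 4) => f i) hσ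
    simpa [pow_succ] using this
  have hM : ∀ i j, TypeD.M 2 (t.σ i) (t.σ j) = TypeD.M 2 i j := by
    intro i j
    rw [← LieRecognition.CoxForm.orderOf_eq cs', ← LieRecognition.CoxForm.orderOf_eq cs', ← t.φ_simple,
      ← t.φ_simple, ← map_mul]
    exact orderOf_injective t.φ.toMonoidHom t.φ.injective _
  obtain ⟨hout, h1⟩ := comb (f := t.σ) hM hσ3 ⟨i, hi⟩
  have D : TriD t 0 (t.σ 0) (t.σ (t.σ 0)) := ⟨hout, h1, rfl, rfl, hσ3 0, hθ, hτ⟩
  by_cases hl3 : l = 3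
  · subst hl3
    have hcard : ¬ 3 ∣ Nat.card (Y ⧸ (R.bnPair hgen).B) := by
      have h2 := S.card_Res hth Set.univ (QuotientGroup.mk 1)
      rw [Bldg.Res_univ] at h2
      have h3 : Nat.card (Set.univ : Set (Y ⧸ (R.bnPair hgen).B)) = Nat.card (Y ⧸ (R.bnPair hgen).B) :=
        Nat.card_congr (Equiv.Set.univ _)
      rw [h3] at h2
      intro h4
      rw [(ZMod.natCast_eq_zero_iff _ _).2 h4] at h2
      exact zero_ne_one h2
    obtain ⟨y, hy⟩ := FixOdd.Tw.exists_fixed (r := 3) (fun y => t.θ y) (by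
      funext y
      exact D.θθθ y) hcard
    refine no_fixed_three cs' hcs hcore hc D hPA ?_ hy
    exact sn_of_lnode (R.isPGroup_Upos) (hn 0)
  · obtain ⟨J, -, y, -, hJ⟩ := t.exists_gd (J := Set.univ) (x := QuotientGroup.mk 1) (fun _ _ => trivial) (by
      rw [Bldg.Res_univ]; trivial)
    rcases gd_type S hth D hJ with rfl | rfl
    · have h2 := hJ.mem
      rw [Bldg.Res_empty] at h2
      exact no_fixed cs' hcs hcore hc hl3 D hPA h2
    · exact no_panel cs' hcs hcore hc hl3 D hPA hJ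

end

theorem center_bot {K : Type*} [Group K] [IsSimpleGroup K] {B : Subgroup K} (hB : B ≠ ⊥)
    (hcore : B.normalCore = ⊥) : Subgroup.center K = ⊥ := by
  rcases (inferInstance : (Subgroup.center K).Normal).eq_bot_or_eq_top with h1 | h1
  · exact h1
  · exfalso
    apply hB
    rw [← hcore]
    refine le_antisymm ?_ (Subgroup.normalCore_le B)
    intro b hb g
    have h2 : b ∈ Subgroup.center K := h1 ▸ Subgroup.mem_top b
    rw [Subgroup.mem_center_iff.1 h2 g, mul_inv_cancel_right]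
    exact hb

theorem exists_eng_tri {K : Type*} [Group K] [Finite K] [IsSimpleGroup K] {l : ℕ} [Fact l.Prime] {Q : Fin 4 → ℕ}
    (H : HasTyped l K (TypeD.M 2) Q) :
    ∃ E : Eng l K (TypeD.M 2) Q, ∀ t : FixOdd.Tw E.Δ K, PA 3 t.τ → t.τ ^ 3 = 1 → t.θ ^ 3 = 1 → ∀ i, t.σ i = i := by
  obtain ⟨A, h, T, n, X, hW, R, hgen, hT, hn⟩ := H
  have hne : (R.bnPair hgen).S.Nonempty := ⟨n 0, ⟨0, rfl⟩⟩
  have hcore := Cfsg.Agent.Tits.OfBN.normalCore_eq_bot (R.bnPair hgen) hne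
  obtain ⟨hN, cs', hcs, hWP, hS⟩ := OddHalf.Table.AutRGD.exists_setup R hgen hcore
  refine ⟨⟨R.bnPair hgen, _, hS, hN, OddHalf.Table.AutRGD.eS R hgen, cs', hcs, hWP, sol_B R hgen hT hS, hcore, hn⟩,
    fun t hPA hτ hθ i => no_tri cs' hcs hcore ?_ hn hPA hτ hθ i⟩
  refine center_bot (B := (R.bnPair hgen).B) ?_ hcore
  intro hB
  obtain ⟨u, hu, hu1⟩ := Triality.exists_ne_one R (isRoot_sr (TypeD.M 2).toCoxeterSystem h (0 : Fin 4))
  apply hu1
  have h1 : u ∈ (R.bnPair hgen).B := U_le_B (FieldRGD.mem_U hu)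
  rwa [hB, Subgroup.mem_bot] at h1

theorem exists_engF_tri {K : Type*} [Group K] [Finite K] [IsSimpleGroup K] {l : ℕ} [Fact l.Prime] {Q : Fin 4 → ℕ}
    (H : HasFTyped l K (TypeD.M 2) Q) :
    ∃ E : Eng l K (TypeD.M 2) Q, (∀ i, FNode E.P E.U (E.e i : K) (Q i)) ∧
      ∀ t : FixOdd.Tw E.Δ K, PA 3 t.τ → t.τ ^ 3 = 1 → t.θ ^ 3 = 1 → ∀ i, t.σ i = i := by
  obtain ⟨A, h, T, n, X, hW, R, hgen, hT, hn⟩ := H
  have hne : (R.bnPair hgen).S.Nonempty := ⟨n 0, ⟨0, rfl⟩⟩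
  have hcore := Cfsg.Agent.Tits.OfBN.normalCore_eq_bot (R.bnPair hgen) hne
  obtain ⟨hN, cs', hcs, hWP, hS⟩ := OddHalf.Table.AutRGD.exists_setup R hgen hcore
  refine ⟨⟨R.bnPair hgen, _, hS, hN, OddHalf.Table.AutRGD.eS R hgen, cs', hcs, hWP, sol_B R hgen hT hS, hcore,
    fun i => (hn i).lnode⟩, hn,
    fun t hPA hτ hθ i => no_tri cs' hcs hcore ?_ (fun i => (hn i).lnode) hPA hτ hθ i⟩
  refine center_bot (B := (R.bnPair hgen).B) ?_ hcore
  intro hB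
  obtain ⟨u, hu, hu1⟩ := Triality.exists_ne_one R (isRoot_sr (TypeD.M 2).toCoxeterSystem h (0 : Fin 4))
  apply hu1
  have h1 : u ∈ (R.bnPair hgen).B := U_le_B (FieldRGD.mem_U hu)
  rwa [hB, Subgroup.mem_bot] at h1

end Cfsg.Agent.H289.Tri
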