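import Cfsg.Agent.H289.Tri.Std
import Cfsg.Agent.FixOdd.Trans

/-!
# Triality: the invariant panel of the central type (helper289, task AA-TRI)

`cent_false` : abstract form. `θ` stabilises the panel `Pan 1 y0` and does not fix `y0`, `m` a root element.
-/

set_option autoImplicit false
set_option linter.unusedSectionVars false

open scoped Pointwise

namespace Cfsg.Agent.H289.Tri

open CoxeterSystem Cfsg.Agent.ChevalleyStructure.CoxeterGeom Cfsg.Agent.Tits.Roots Cfsg.Agent.Nodes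
  Cfsg.Agent.Tits.Core Cfsg.Agent.Tits.Core.Bldg Cfsg.Agent.Tits Cfsg.Agent.Tits.Exchange
open Cfsg.Agent.FixBN (Sys)
open Cfsg.Agent.FixOdd (Tw)
open Cfsg.Agent.H460.AA

variable {W : Type*} [Group W] {cs : CoxeterSystem (TypeD.M 2) W} {C : Type*} {Δ : Bldg cs C}
  {G : Type*} [Group G] [MulAction G C] {l : ℕ} {t : Tw Δ G} {a b c : Fin 4}

/-- the longest element of `⟨1, a, b⟩` -/
theorem wJ_three [F : OppRes.Cox cs] (hout : Out a b c) : cs.wordProd [1, b, 1, a, 1, b] = wJ cs {1, a, b} := by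
  have h := TypeD.isCartan 2
  refine F.eq_wJ_of_descents (wordProd_mem_WJ cs (by simp)) ?_
  intro j hj
  have h1 := cs.length_mul_simple (cs.wordProd [1, b, 1, a, 1, b]) j
  have h2 : ¬ cs.length (cs.wordProd [1, b, 1, a, 1, b]) < cs.length (cs.wordProd [1, b, 1, a, 1, b] * cs.simple j) := by
    rw [lt_iff' cs h, rep_word cs h]
    have key : ∀ a b c : Fin 4, Out a b c → ∀ j : Fin 4, (j = 1 ∨ j = a ∨ j = b) →
        ¬ (0 ≤ act [1, b, 1, a, 1, b] (Pi.single j 1)) := by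
      intro a b c h1 j h2 h3
      revert a b c j
      simp only [Pi.le_def]
      decide
    exact key a b c hout j (by simpa using hj)
  omega

theorem θ_mem_Res' (t : Tw Δ G) {J J' : Set (Fin 4)} (hJ : ∀ j ∈ J, t.σ j ∈ J') {x y : C} (h : y ∈ Δ.Res J x) :
    t.θ y ∈ Δ.Res J' (t.θ x) := by
  rw [mem_Res, t.δ_θ]
  obtain ⟨ω, hω, e⟩ := Tits.Exchange.exists_word_of_mem_WJ cs ((Δ.mem_Res).1 h)
  rw [← e, map_word]
  refine wordProd_mem_WJ cs ?_
  intro i hi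
  obtain ⟨j, hj, rfl⟩ := List.mem_map.1 hi
  exact hJ j (hω j hj)

/-- the image of the fixed chambers -/
theorem fix_image (T : TriD t a b c) {m : G} {J J' : Set (Fin 4)} {x : C} (hm : ∀ z ∈ Δ.Res J x, m • z = z)
    (hJ : ∀ j ∈ J', t.σ (t.σ j) ∈ J) : ∀ z ∈ Δ.Res J' (t.θ x), t.τ m • z = z := by
  intro z hz
  have h1 : t.θ (t.θ z) ∈ Δ.Res J x := by
    have h2 := θ_mem_Res' t (J' := (t.σ '' J')) (fun j hj => ⟨j, hj, rfl⟩) hz
    have h3 := θ_mem_Res' t (J' := J) (by rintro _ ⟨j, hj, rfl⟩; exact hJ j hj) h2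
    rwa [T.θθθ] at h3
  have h4 := t.θ_smul m (t.θ (t.θ z))
  rw [hm _ h1, T.θθθ] at h4
  exact h4.symm

theorem eq_one_of_PE (S : Sys Δ G l) [Fact l.Prime] (hl3 : l ≠ 3) {x : C} {g : G} (hg : g ∈ S.U x)
    (h3 : PE 3 g) : g = 1 := by
  obtain ⟨j, hj⟩ := h3
  obtain ⟨i, hi⟩ := S.isP x ⟨g, hg⟩
  have hi' : g ^ l ^ i = 1 := by
    have := congrArg Subtype.val hi
    simpa using this
  have h1 : orderOf g ∣ l ^ i := orderOf_dvd_of_pow_eq_one hi'
  rw [hj] at h1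
  have h2 : Nat.Coprime (3 ^ j) (l ^ i) :=
    Nat.Coprime.pow _ _ ((Nat.coprime_primes Nat.prime_three Fact.out).2 (Ne.symm hl3))
  have h4 := Nat.Coprime.eq_one_of_dvd h2 h1
  rw [← hj] at h4
  exact orderOf_eq_one_iff.1 h4

/-- **The central panel**, abstract form. -/
theorem cent_false (S : Sys Δ G l) (hth : Δ.Thick) [hl : Fact l.Prime] [F : OppRes.Cox cs] (hl3 : l ≠ 3)
    (T : TriD t a b c) {y0 yc : C} (h01 : Δ.δ y0 (t.θ y0) = cs.simple 1) (h0c : Δ.δ y0 yc = cs.simple c) {m : G}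
    (hmU : m ∈ S.U y0) (hm1 : ∀ z ∈ Δ.Res {1, b, c} y0, m • z = z) (hm2 : ∀ z ∈ Δ.Res {1, a} yc, m • z = z)
    (hm3 : ∀ z, Δ.δ (t.θ y0) z = cs.simple a → m • z ≠ z) (hPE : PE 3 (Psi t.τ m)) : False := by
  obtain ⟨ha1, hb1, hc1, hab, hac, hbc⟩ := T.out
  set y1 := t.θ y0 with hy1
  set y2 := t.θ y1 with hy2
  have h12 : Δ.δ y1 y2 = cs.simple 1 := by rw [hy2, hy1, t.δ_θ, ← hy1, h01, t.φ_simple, T.one]
  have hy20 : t.θ y2 = y0 := T.θθθ y0
  have h20 : Δ.δ y2 y0 = cs.simple 1 := by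
    have h1 := t.δ_θ y1 y2
    rw [h12, t.φ_simple, T.one, hy20] at h1
    exact h1
  have h10 : Δ.δ y1 y0 = cs.simple 1 := by rw [Δ.symm, h01, cs.inv_simple]
  -- residues
  have hmem1 : ∀ J : Set (Fin 4), (1 : Fin 4) ∈ J → y1 ∈ Δ.Res J y0 := fun J hJ => by
    rw [mem_Res, h01]; exact simple_mem_WJ cs hJ
  have hmem2 : ∀ J : Set (Fin 4), (1 : Fin 4) ∈ J → y2 ∈ Δ.Res J y0 := fun J hJ => by
    refine Δ.mem_Res_symm ?_
    rw [mem_Res, h20]; exact simple_mem_WJ cs hJ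
  set A := t.τ m with hA
  set B := t.τ A with hB
  have hA1 : ∀ z ∈ Δ.Res {1, c, a} y0, A • z = z := by
    intro z hz
    refine fix_image T (J' := {1, c, a}) hm1 ?_ z ?_
    · rintro j (rfl | rfl | rfl)
      · rw [T.one, T.one]; simp
      · rw [T.ca, T.ab]; simp
      · rw [T.ab, T.bc]; simp
    · rw [← hy1, Δ.Res_eq_of_mem (hmem1 _ (by simp))]
      exact hz
  have hB1 : ∀ z ∈ Δ.Res {1, a, b} y0, B • z = z := by
    intro z hz
    refine fix_image T (J' := {1, a, b}) (x := y1) (fun w hw => hA1 w ?_) ?_ z ?_ (J := {1, c, a})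
    · rwa [Δ.Res_eq_of_mem (hmem1 _ (by simp))] at hw
    · rintro j (rfl | rfl | rfl)
      · rw [T.one, T.one]; simp
      · rw [T.ab, T.bc]; simp
      · rw [T.bc, T.ca]; simp
    · rw [← hy2, Δ.Res_eq_of_mem (hmem2 _ (by simp))]
      exact hz
  have hy0m : ∀ J : Set (Fin 4), y0 ∈ Δ.Res J y0 := fun J => Δ.self_mem_Res _ _
  have hAU : A ∈ S.U y0 := S.mem_U_of_fix (FixOdd.Tw.τ_mem_U S t hmU) (hA1 _ (hy0m _))
  have hBU : B ∈ S.U y0 := S.mem_U_of_fix (FixOdd.Tw.τ_mem_U S t (FixOdd.Tw.τ_mem_U S t hmU)) (hB1 _ (hy0m _))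
  have hPsi : Psi t.τ m = 1 := by
    refine eq_one_of_PE S hl3 (x := y0) ?_ hPE
    exact mul_mem (mul_mem (mul_mem (mul_mem (mul_mem hAU (inv_mem hBU)) hmU) (inv_mem hAU)) hBU) (inv_mem hmU)
  change A * B⁻¹ * m * A⁻¹ * B * m⁻¹ = 1 at hPsi
  -- the residue `Q`
  have hQ : ∀ u ∈ S.U y0, ∀ z ∈ Δ.Res {1, a, b} y0, u • z ∈ Δ.Res {1, a, b} y0 := by
    intro u hu z hz
    rw [mem_Res] at hz ⊢
    have h1 := S.iso u y0 z
    rw [S.fix _ u hu] at h1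
    rwa [h1]
  have hcomm : ∀ z ∈ Δ.Res {1, a, b} y0, A • m • z = m • A • z := by
    intro z hz
    have h1 : A * B⁻¹ * m * A⁻¹ * B = m := by
      rw [mul_inv_eq_one] at hPsi; exact hPsi
    have h2 : ∀ z ∈ Δ.Res {1, a, b} y0, B⁻¹ • z = z := fun z hz => by
      rw [inv_smul_eq_iff, hB1 z hz]
    have h3 : (A * B⁻¹ * m * A⁻¹ * B) • (A • z) = m • A • z := by rw [h1]
    rw [mul_smul, hB1 _ (hQ A hAU z hz), mul_smul, inv_smul_smul, mul_smul, mul_smul, h2 _ (hQ m hmU z hz)] at h3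
    exact h3
  -- the chamber `d`
  set d := t.θ yc with hd
  have h1d : Δ.δ y1 d = cs.simple a := by rw [hy1, hd, t.δ_θ, h0c, t.φ_simple, T.ca]
  have hAd : ∀ z ∈ Δ.Res {1, b} d, A • z = z := by
    refine fix_image T hm2 ?_
    rintro j (rfl | rfl)
    · rw [T.one, T.one]; simp
    · rw [T.bc, T.ca]; simp
  have hm_y1 : m • y1 = y1 := hm1 _ (hmem1 _ (by simp))
  have h1md : Δ.δ y1 (m • d) = cs.simple a := by
    have h1 := S.iso m y1 d
    rwa [hm_y1, h1d] at h1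
  have hdmd : Δ.δ d (m • d) = cs.simple a := by
    have h1 : m • d ∈ Δ.Pan a d := by
      rw [Δ.Pan_eq_of_mem (show d ∈ Δ.Pan a y1 from Or.inr h1d)]
      exact Or.inr h1md
    rcases h1 with h1 | h1
    · exact absurd h1 (hm3 d h1d)
    · exact h1
  have hdQ : d ∈ Δ.Res {1, a, b} y0 := by
    refine Δ.mem_Res_trans (hmem1 _ (by simp)) ?_
    rw [mem_Res, h1d]
    exact simple_mem_WJ cs (by simp)
  have hAmd : ∀ z ∈ Δ.Res {1, b} (m • d), A • z = z := by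
    intro z hz
    have h1 : m⁻¹ • z ∈ Δ.Res {1, b} d := by
      rw [mem_Res] at hz ⊢
      have h2 := S.iso m d (m⁻¹ • z)
      rw [smul_inv_smul] at h2
      rwa [← h2]
    have h2 : m⁻¹ • z ∈ Δ.Res {1, a, b} y0 :=
      Δ.mem_Res_trans hdQ (Δ.Res_mono (by rintro j (rfl | rfl) <;> simp) _ h1)
    have h3 := hcomm _ h2
    rwa [smul_inv_smul, hAd _ h1, smul_inv_smul] at h3
  -- two opposite chambers of `Q`
  obtain ⟨x, hx⟩ := Δ.exists_δ d (cs.wordProd [1, b, 1])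
  obtain ⟨x', hx'⟩ := Δ.exists_δ (m • d) (cs.wordProd [1, b])
  have hxd : Δ.δ x d = cs.wordProd [1, b, 1] := by
    rw [Δ.symm, hx, ← cs.wordProd_reverse]
    rfl
  have r1 : ∀ a b c : Fin 4, Out a b c → Red [1, b, 1] ∧ Red [a] ∧ Red [1, b] ∧ Red ([1, b, 1] ++ [a]) ∧
      Red (([1, b, 1] ++ [a]) ++ [1, b]) := by decide
  obtain ⟨r1, r2, r3, r4, r5⟩ := r1 a b c T.out
  have hx1 := δ_word hxd (ω' := [a]) (by rw [hdmd, cs.wordProd_singleton]) r4 r1 r2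
  have hx2 := δ_word hx1 hx' r5 r4 r3
  have hxx' : Δ.δ x x' = wJ cs {1, a, b} := by
    rw [hx2, ← wJ_three T.out]
    rfl
  have hxmem : x ∈ Δ.Res {1, b} d := by
    rw [mem_Res, hx]
    exact wordProd_mem_WJ cs (by simp)
  have hx'mem : x' ∈ Δ.Res {1, b} (m • d) := by
    rw [mem_Res, hx']
    exact wordProd_mem_WJ cs (by simp)
  have hfixQ := S.fixRes hth (S.mem_U_of_fix hAU (hAd x hxmem)) hxx' (hAmd x' hx'mem)
  have hQx : Δ.Res {1, a, b} x = Δ.Res {1, a, b} y0 := by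
    refine Δ.Res_eq_of_mem ?_
    exact Δ.mem_Res_trans hdQ (Δ.Res_mono (by rintro j (rfl | rfl) <;> simp) _ hxmem)
  rw [hQx] at hfixQ
  -- contradiction
  obtain ⟨z, hz⟩ := Δ.exists_δ y1 (cs.simple a)
  have h2z : Δ.δ y2 (t.θ z) = cs.simple b := by rw [hy2, t.δ_θ, hz, t.φ_simple, T.ab]
  have hzQ : t.θ z ∈ Δ.Res {1, a, b} y0 := by
    refine Δ.mem_Res_trans (hmem2 _ (by simp)) ?_
    rw [mem_Res, h2z]
    exact simple_mem_WJ cs (by simp)
  have h5 := hfixQ _ hzQ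
  rw [hA, ← t.θ_smul] at h5
  exact hm3 z hz (t.θ.injective h5)

end Cfsg.Agent.H289.Tri
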