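import Cfsg.Agent.H289.Tri.CentA
import Cfsg.Agent.UGT.U2.FOne.TriCount
import Cfsg.Agent.UGT.U2.FOne.TriComb

/-!
# Triality: no invariant panel of the central type (helper289, task AA-TRI)
-/

set_option autoImplicit false
set_option linter.unusedSectionVars false

open scoped Pointwise

namespace Cfsg.Agent.H289.Tri

open CoxeterSystem Cfsg.Agent.ChevalleyStructure.CoxeterGeom Cfsg.Agent.Tits.Roots Cfsg.Agent.Tits.Core
  Cfsg.Agent.Tits.RootComb Cfsg.Agent.Nodes Cfsg.Agent.Nodes.Comb Cfsg.Agent.Nodes.Reps Cfsg.Agent.Nodes.BNOf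
  Cfsg.Agent.Nodes.BNOf.RGD
  Cfsg.Agent.FixBN Cfsg.Agent.Tits.OfBN Cfsg.Agent.Tits.OppRes Cfsg.Agent.LieExceptional.BNPairCore
  Cfsg.Agent.OddHalf.Table.AutBldg Cfsg.Agent.OddHalf.Table.AutRGD Cfsg.Agent.OddHalf.Table.AutNorm
  Cfsg.Agent.Tits Cfsg.Agent.Nodes.RGDLib Cfsg.Agent.UGT.U2.FOne
open Cfsg.Agent.Tits.Core.Bldg Cfsg.Agent.H460.AA

section Gen

variable {I W Y : Type*} [Fintype I] [DecidableEq I] [Group W] [Group Y] {M : CoxeterMatrix I}
  {cs : CoxeterSystem M W} {A : I → I → ℤ} {h : IsCartan M A} {p : ℕ} {T : Subgroup Y} {n : I → Y}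
  {X : (I → ℤ) → Subgroup Y} [Finite W]

variable (R : RGD cs h p T n X) (hgen : B cs h T X ⊔ NN cs R.nsys = ⊤)
  [hN : (((R.bnPair hgen).B ⊓ (R.bnPair hgen).N).subgroupOf (R.bnPair hgen).N).Normal]
  (cs' : CoxeterSystem M (WP (R.bnPair hgen)))
  (hcs : ∀ i, cs'.simple i = QuotientGroup.mk
    (⟨(eS R hgen i : Y), (R.bnPair hgen).subset (eS R hgen i).2⟩ : (R.bnPair hgen).N))
  [Finite Y] [Fact p.Prime] (hcore : (B cs h T X).normalCore = ⊥)

theorem X_mem_U {w : W} {k : Y} (hk : Rp cs R.nsys w k) {x : I → ℤ} (hx : IsRoot cs h x)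
    (h0 : 0 ≤ rep cs h w⁻¹ x) {u : Y} (hu : u ∈ X x) :
    u ∈ (Sy R hgen cs' hcs hcore).U (ch R hgen k) := by
  rw [mem_Sy]
  exact le_Sup (S := Pos cs h) ⟨hx.act _, h0⟩ (R.conj_mem' hk hx hu)

include hcore in
/-- a root group fixes a residue of the apartment chamberwise -/
theorem X_fix_res {w : W} {k : Y} (hk : Rp cs R.nsys w k) {x : I → ℤ} (hx : IsRoot cs h x)
    (h0 : 0 ≤ rep cs h w⁻¹ x) {J : Set I} {j : I} (hj : j ∉ J) (hpos : 0 < rep cs h w⁻¹ x j) {u : Y}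
    (hu : u ∈ X x) : ∀ z ∈ (Bl R hgen cs' hcs).Res J (ch R hgen k), u • z = z := by
  have hW : Finite (WP (R.bnPair hgen)) := inferInstance
  have hC : Cox cs := inferInstance
  have hC' : Cox cs' := inferInstance
  have hth : (Bl R hgen cs' hcs).Thick := thick (R.bnPair hgen) (eS R hgen) cs' hcs
  obtain ⟨k', hk'⟩ := exists_rp cs R.nsys (w * wJ cs J)
  refine (Sy R hgen cs' hcs hcore).fixRes hth (X_mem_U R hgen cs' hcs hcore hk hx h0 hu) (x' := ch R hgen k') ?_ ?_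
  · rw [δ_rp R hgen cs' hcs hk hk', inv_mul_cancel_left, fw_wJ]
  · refine X_smul_ch R hgen hk' hx ?_ hu
    rw [mul_inv_rev, rep_mul_apply, hC.wJ_inv]
    have h1 : IsRoot cs h (rep cs h (wJ cs J) (rep cs h w⁻¹ x)) := (hx.act _).act _
    refine StabComb.nonneg_of_pos_apply h1 (k := j) ?_
    rw [RootComb.rep_apply_of_mem cs h (hC.wJ_mem J) _ hj]
    exact hpos

include hcore in
/-- an element of a simple root group moves the other chambers of the panel -/
theorem X_move {i : I} {k : Y} {w : W} (hk : Rp cs R.nsys w k) {u : Y} (hu : u ∈ X (rep cs h w (sr i))) (h1 : u ≠ 1)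
    {z : Y ⧸ (R.bnPair hgen).B} (hz : (Bl R hgen cs' hcs).δ (ch R hgen k) z = cs'.simple i) : u • z ≠ z := by
  intro hfix
  have hW : Finite (WP (R.bnPair hgen)) := inferInstance
  have hC : Cox cs := inferInstance
  have hC' : Cox cs' := inferInstance
  set S := Sy R hgen cs' hcs hcore
  have hr : IsRoot cs h (rep cs h w (sr i)) := ⟨w, i, rfl⟩
  obtain ⟨k1, hk1⟩ := exists_rp cs R.nsys (w * cs.simple i)
  obtain ⟨k2, hk2⟩ := exists_rp cs R.nsys (w * cs.simple i * w0 cs)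
  have hU : u ∈ S.U (ch R hgen k) := X_mem_U R hgen cs' hcs hcore hk hr (by
    rw [rep_inv_apply]; exact sr_nonneg i) hu
  have h2 : u • ch R hgen k1 = ch R hgen k1 := by
    refine S.pan _ z i hz u hU hfix _ (Or.inr ?_)
    rw [δ_rp R hgen cs' hcs hk hk1, inv_mul_cancel_left, fw_simple]
  have h3 := S.mem_U_of_fix hU h2
  apply h1
  refine S.free _ (ch R hgen k2) ?_ u h3 ?_
  · change (Bl R hgen cs' hcs).δ _ _ = wJ cs' Set.univ
    rw [δ_rp R hgen cs' hcs hk1 hk2, inv_mul_cancel_left]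
    exact fw_wJ cs cs' Set.univ
  · refine X_smul_ch R hgen hk2 hr ?_ hu
    have h4 : (w * cs.simple i * w0 cs)⁻¹ = (w0 cs)⁻¹ * (cs.simple i * w⁻¹) := by
      rw [mul_inv_rev, mul_inv_rev, cs.inv_simple]
    rw [h4, rep_mul_apply, rep_mul_apply, rep_inv_apply, rep_simple_sr, map_neg, hC.w0_inv]
    exact neg_nonneg.2 (neg_of_w0 (isRoot_sr cs h i) (sr_nonneg i))

end Gen

variable {W Y : Type*} [Group W] [Group Y]
  {cs : CoxeterSystem (TypeD.M 2) W} {A : Fin 4 → Fin 4 → ℤ} {h : IsCartan (TypeD.M 2) A} {l : ℕ}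
  {T : Subgroup Y} {n : Fin 4 → Y} {X : (Fin 4 → ℤ) → Subgroup Y} [Finite W]

variable {R : RGD cs h l T n X} {hgen : B cs h T X ⊔ NN cs R.nsys = ⊤}
  [hN : (((R.bnPair hgen).B ⊓ (R.bnPair hgen).N).subgroupOf (R.bnPair hgen).N).Normal]
  (cs' : CoxeterSystem (TypeD.M 2) (WP (R.bnPair hgen)))
  (hcs : ∀ i, cs'.simple i = QuotientGroup.mk
    (⟨(eS R hgen i : Y), (R.bnPair hgen).subset (eS R hgen i).2⟩ : (R.bnPair hgen).N))

/-- **No invariant panel of the central type.** -/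
theorem no_panel [Fact l.Prime] [Finite Y] (hcore : (B cs h T X).normalCore = ⊥)
    (hc : Subgroup.center Y = ⊥) (hl3 : l ≠ 3) {t : FixOdd.Tw (Bl R hgen cs' hcs) Y} {a b c : Fin 4}
    (D : TriD t a b c) (hPA : PA 3 t.τ) {y : Y ⧸ (R.bnPair hgen).B} (hy : t.Gd {1} y) : False := by
  have hW : Finite (WP (R.bnPair hgen)) := inferInstance
  have hC : Cox cs := inferInstance
  have hC' : Cox cs' := inferInstance
  have hth : (Bl R hgen cs' hcs).Thick := thick (R.bnPair hgen) (eS R hgen) cs' hcs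
  set S := Sy R hgen cs' hcs hcore with hS
  -- standard position
  have hy1 : (Bl R hgen cs' hcs).δ y (t.θ y) = cs'.simple 1 := by
    have h1 := hy.mem
    rw [← Bldg.Pan_eq_Res] at h1
    rcases h1 with h1 | h1
    · exfalso
      have h2 := hy.min y (Bldg.self_mem_Res _ _ _) ∅ (Set.empty_subset _) (fun i hi => hi.elim) (by
        rw [h1]; exact Bldg.self_mem_Res _ _ _)
      exact absurd h2.symm (Set.singleton_ne_empty _)
    · exact h1
  have r1 := rp_simple cs R.nsys (1 : Fin 4)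
  have h0 : (Bl R hgen cs' hcs).δ (ch R hgen 1) (ch R hgen (n 1)) = cs'.simple 1 := by
    rw [δ_rp R hgen cs' hcs rp_one r1, inv_one, one_mul, fw_simple]
  obtain ⟨g, hg1, hg2⟩ := Tits.OfBN.trans (R.bnPair hgen) (ch R hgen 1) (ch R hgen (n 1)) y (t.θ y)
    (h0.trans hy1.symm)
  have D' := D.cj S g
  have hPA' := cj_PA S t g hPA
  have e1 : (cj S t g).θ (ch R hgen 1) = ch R hgen (n 1) := by
    rw [cj_θ, hg1, ← hg2, inv_smul_smul]
  generalize cj S t g = u at *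
  -- the root
  have hroot : ∀ a b c : Fin 4, Out a b c →
      (∀ i, 0 ≤ act [a] (Pi.single 1 1) i) ∧ 0 < act [a] (Pi.single 1 1) a ∧
      (∀ i, 0 ≤ act ([c] ++ [a]) (Pi.single 1 1) i) ∧ 0 < act ([c] ++ [a]) (Pi.single 1 1) c ∧
      (∀ i, act [a] (Pi.single 1 1) i = act [1] (Pi.single a 1) i) := by decide
  obtain ⟨q1, q2, q3, q4, q5⟩ := hroot a b c D'.out
  obtain ⟨ha1, hb1, hc1, hab, hac, hbc⟩ := D'.out
  have q5 := funext q5
  set γ := rep cs h (cs.wordProd [a]) (sr 1) with hγ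
  have hγr : IsRoot cs h γ := ⟨_, _, rfl⟩
  have hγ1 : γ = act [a] (Pi.single 1 1) := rep_word cs h _ _
  have hγ2 : γ = rep cs h (cs.simple 1) (sr a) := by
    rw [hγ1, q5, ← cs.wordProd_singleton, rep_word cs h]; rfl
  obtain ⟨m, hm, hm1⟩ := Triality.exists_ne_one R hγr
  have rc := rp_simple cs R.nsys c
  refine cent_false S hth hl3 D' (y0 := ch R hgen 1) (yc := ch R hgen (n c)) (m := m) ?_ ?_ ?_ ?_ ?_ ?_
    (pe_psi D'.τ3 hc hPA' m)
  · rw [e1, h0]
  · rw [δ_rp R hgen cs' hcs rp_one rc, inv_one, one_mul, fw_simple]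
  · refine X_mem_U R hgen cs' hcs hcore rp_one hγr ?_ hm
    rw [inv_one, map_one, Module.End.one_apply, hγ1]
    exact q1
  · refine X_fix_res R hgen cs' hcs hcore rp_one hγr (j := a) ?_ ?_ ?_ hm
    · rw [inv_one, map_one, Module.End.one_apply, hγ1]
      exact q1
    · simp [ha1, hab, hac]
    · rw [inv_one, map_one, Module.End.one_apply, hγ1]
      exact q2
  · have h3 : rep cs h (cs.simple c)⁻¹ γ = act ([c] ++ [a]) (Pi.single 1 1) := by
      rw [cs.inv_simple, hγ, ← rep_mul_apply, ← cs.wordProd_singleton c, ← cs.wordProd_append, rep_word cs h]; rfl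
    refine X_fix_res R hgen cs' hcs hcore rc hγr (j := c) ?_ ?_ ?_ hm
    · rw [h3]
      exact q3
    · simp [hc1, Ne.symm hac]
    · rw [h3]
      exact q4
  · intro z hz
    rw [e1] at hz
    rw [hγ2] at hm
    exact X_move R hgen cs' hcs hcore r1 hm hm1 hz

end Cfsg.Agent.H289.Tri
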