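import Cfsg.Agent.Nodes.TypeD
import Cfsg.Agent.Nodes.Comb

/-!
# Triality: computations in the Weyl group of type `D₄` (helper289, task AA-TRI)

The centre of the diagram `TypeD.M 2` is `1`. `rep_word` : the action of words on the root lattice, computable;
`red`, `length_word` : reduced words.
-/

set_option autoImplicit false

namespace Cfsg.Agent.H289.Tri

open CoxeterSystem Cfsg.Agent.ChevalleyStructure.CoxeterGeom Cfsg.Agent.Tits.Roots Cfsg.Agent.Nodes
  Cfsg.Agent.Tits.Core

/-- the reflections, computable -/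
def rf (i : Fin 4) (v : Fin 4 → ℤ) : Fin 4 → ℤ := fun k =>
  if k = i then (if i = 1 then v 0 + v 2 + v 3 - v 1 else v 1 - v i) else v k

/-- the action of a word -/
def act (ω : List (Fin 4)) (v : Fin 4 → ℤ) : Fin 4 → ℤ := ω.foldr rf v

theorem M_eq (i j : Fin 4) : TypeD.M 2 i j = if i = j then 1 else if i = 1 ∨ j = 1 then 3 else 2 := by
  fin_cases i <;> fin_cases j <;> rfl

variable {W : Type*} [Group W] (cs : CoxeterSystem (TypeD.M 2) W) {A : Fin 4 → Fin 4 → ℤ}
  (h : IsCartan (TypeD.M 2) A)

include h in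
theorem A_eq (i j : Fin 4) : A i j = if i = j then 2 else if i = 1 ∨ j = 1 then -1 else 0 := by
  by_cases hij : i = j
  · subst hij
    rw [if_pos rfl, h.diag]
  · rw [if_neg hij]
    have hM := M_eq i j
    rw [if_neg hij] at hM
    by_cases h1 : i = 1 ∨ j = 1
    · rw [if_pos h1] at hM ⊢
      rcases h.rel i j hij with ⟨hm, h2, -⟩ | ⟨hm, h2, -⟩ | ⟨hm, -⟩ | ⟨hm, -⟩
      · rw [hM] at hm; exact absurd hm (by decide)
      · exact h2
      · rw [hM] at hm; exact absurd hm (by decide)
      · rw [hM] at hm; exact absurd hm (by decide)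
    · rw [if_neg h1] at hM ⊢
      rcases h.rel i j hij with ⟨hm, h2, -⟩ | ⟨hm, h2, -⟩ | ⟨hm, -⟩ | ⟨hm, -⟩
      · exact h2
      · rw [hM] at hm; exact absurd hm (by decide)
      · rw [hM] at hm; exact absurd hm (by decide)
      · rw [hM] at hm; exact absurd hm (by decide)

theorem rep_rf (i : Fin 4) (v : Fin 4 → ℤ) : rep cs h (cs.simple i) v = rf i v := by
  rw [rep_simple_eq]
  funext k
  rw [Pi.sub_apply, Pi.smul_apply, smul_eq_mul]
  have hp : pairing A i v = ∑ k, A i k * v k := rfl
  rw [hp, Fin.sum_univ_four]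
  simp only [A_eq h]
  unfold rf sr
  fin_cases i <;> fin_cases k <;> simp <;> ring

theorem rep_word (ω : List (Fin 4)) (v : Fin 4 → ℤ) : rep cs h (cs.wordProd ω) v = act ω v := by
  induction ω with
  | nil => rw [cs.wordProd_nil, map_one, Module.End.one_apply]; rfl
  | cons i ω ih => rw [cs.wordProd_cons, rep_mul_apply, ih, rep_rf]; rfl

/-- `ω` is a reduced word (sufficient condition) -/
def Red (ω : List (Fin 4)) : Prop := ∀ k : Fin ω.length, ∀ i, 0 ≤ act (ω.take k) (Pi.single (ω.get k) 1) i

instance instDecRed (ω : List (Fin 4)) : Decidable (Red ω) := by unfold Red; infer_instance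

theorem length_word {ω : List (Fin 4)} (hr : Red ω) : cs.length (cs.wordProd ω) = ω.length := by
  have h := TypeD.isCartan 2
  have key : ∀ k ≤ ω.length, cs.length (cs.wordProd (ω.take k)) = k := by
    intro k
    induction k with
    | zero => intro _; simp
    | succ k ih =>
      intro hk
      have h1 := ih (by omega)
      have h2 : ω.take (k + 1) = ω.take k ++ [ω[k]] := by
        rw [List.take_succ_eq_append_getElem (by omega)]
      rw [h2, cs.wordProd_append, cs.wordProd_singleton]
      have h3 : cs.length (cs.wordProd (ω.take k)) < cs.length (cs.wordProd (ω.take k) * cs.simple ω[k]) := by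
        rw [lt_iff' cs h, rep_word cs h]
        exact hr ⟨k, by omega⟩
      have h4 := cs.length_mul_simple (cs.wordProd (ω.take k)) ω[k]
      omega
  have := key ω.length le_rfl
  rwa [List.take_length] at this

/-- `a, b, c` are the outer nodes -/
def Out (a b c : Fin 4) : Prop := a ≠ 1 ∧ b ≠ 1 ∧ c ≠ 1 ∧ a ≠ b ∧ a ≠ c ∧ b ≠ c

instance instDecOut (a b c : Fin 4) : Decidable (Out a b c) := by unfold Out; infer_instance

theorem red_six : ∀ a b c : Fin 4, Out a b c → Red [a, 1, b, 1, c, 1] := by decide

theorem out_all : ∀ a b c : Fin 4, Out a b c → ∀ i : Fin 4, i = 1 ∨ i = a ∨ i = b ∨ i = c := by decide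

theorem red_two : ∀ a b c : Fin 4, Out a b c → Red [a, b] := by decide

theorem red_five : ∀ a b c : Fin 4, Out a b c → Red [1, b, 1, a, 1, b] := by decide

end Cfsg.Agent.H289.Tri
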