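import Cfsg.Agent.H289.Tri.Cox
import Cfsg.Agent.H460.OppTrace
import Cfsg.Agent.FixOdd.Smith
import Cfsg.Agent.FixBN.TraceSys

/-!
# Triality: the minimal invariant residues (helper289, task AA-TRI)

`t` an automorphism of order three of the building of type `D₄` rotating the outer nodes `a → b → c → a`. The type of
a minimal invariant residue is `∅` or `{1}` (`gd_type`).
-/

set_option autoImplicit false
set_option linter.unusedSectionVars false

namespace Cfsg.Agent.H289.Tri

open CoxeterSystem Cfsg.Agent.ChevalleyStructure.CoxeterGeom Cfsg.Agent.Tits.Roots Cfsg.Agent.Nodes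
  Cfsg.Agent.Tits.Core Cfsg.Agent.Tits.Core.Bldg Cfsg.Agent.Tits Cfsg.Agent.Tits.Exchange
open Cfsg.Agent.FixBN (Sys)
open Cfsg.Agent.FixOdd (Tw)

variable {W : Type*} [Group W] {cs : CoxeterSystem (TypeD.M 2) W} {C : Type*} {Δ : Bldg cs C}
  {G : Type*} [Group G] [MulAction G C]

/-- `t` rotates the outer nodes and has order three. -/
structure TriD (t : Tw Δ G) (a b c : Fin 4) : Prop where
  out : Out a b c
  one : t.σ 1 = 1
  ab : t.σ a = b
  bc : t.σ b = c
  ca : t.σ c = a
  θ3 : t.θ ^ 3 = 1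
  τ3 : t.τ ^ 3 = 1

variable {t : Tw Δ G} {a b c : Fin 4}

theorem TriD.θθθ (T : TriD t a b c) (y : C) : t.θ (t.θ (t.θ y)) = y := by
  have h1 := congrArg (fun f : Equiv.Perm C => f y) T.θ3
  simpa [pow_succ] using h1

theorem TriD.rot (T : TriD t a b c) : TriD t b c a := by
  obtain ⟨⟨h1, h2, h3, h4, h5, h6⟩, h7, h8, h9, h10, h11, h12⟩ := T
  exact ⟨⟨h2, h3, h1, h6, Ne.symm h4, Ne.symm h5⟩, h7, h9, h10, h8, h11, h12⟩

theorem map_word (t : Tw Δ G) (ω : List (Fin 4)) : t.φ (cs.wordProd ω) = cs.wordProd (ω.map t.σ) :=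
  FixBN.Cox.map_wordProd t.φ_simple ω

/-- distances given by reduced words -/
theorem δ_word {x y z : C} {ω ω' : List (Fin 4)} (h1 : Δ.δ x y = cs.wordProd ω) (h2 : Δ.δ y z = cs.wordProd ω')
    (hr : Red (ω ++ ω')) (hr1 : Red ω) (hr2 : Red ω') : Δ.δ x z = cs.wordProd (ω ++ ω') := by
  rw [cs.wordProd_append]
  refine Δ.δ_mul_of h1 h2 ?_
  rw [← cs.wordProd_append, length_word cs hr, length_word cs hr1, length_word cs hr2, List.length_append]

section Gd

variable {l : ℕ} [Fact l.Prime] [Finite C] [F : OppRes.Cox cs]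

theorem no_gd (S : Sys Δ G l) (hth : Δ.Thick) (T : TriD t a b c) {J : Set (Fin 4)} {y : C} (hJ : t.Gd J y)
    {ω : List (Fin 4)} (hω : ∀ i ∈ ω, i ∈ J)
    (hfull : ∀ K ⊆ J, (∀ i ∈ K, t.σ i ∈ K) → (∀ i ∈ ω, i ∈ K) → K = J) (hr : Red ω) :
    ∃ z ∈ Δ.Res J y, Δ.δ z (t.θ z) = cs.wordProd ω := by
  have hσ : t.σ ^ 3 = 1 := by
    have : Nonempty C := ⟨y⟩
    exact Tw.σ_pow T.θ3
  have hst := hJ.θ_stable
  refine H460.OppTrace.exists_delta (p := l) t.φ_simple hJ.st t.δ_θ hst ?_ hJ.min
    (fun i _ a _ => S.card_Pan_eq hth a i) (r := 3) (by norm_num) hσ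
    (Tits.Exchange.wordProd_mem_WJ cs hω) ?_
  · intro z hz
    have h1 : t.θ.symm z = t.θ (t.θ z) := by
      rw [Equiv.symm_apply_eq, T.θθθ]
    rw [h1]
    exact hst _ (hst _ hz)
  · intro K hK hKσ hw
    refine hfull K hK hKσ fun i hi => ?_
    refine H460.OppTrace.letters_mem (cs := cs) (ω := ω) ?_ hw i hi
    exact length_word cs hr

/-- there is no elliptic triality automorphism of order three -/
theorem no_univ (S : Sys Δ G l) (hth : Δ.Thick) (T : TriD t a b c) {y : C} : ¬ t.Gd Set.univ y := by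
  intro hJ
  obtain ⟨z, -, hz⟩ := no_gd (ω := [a, 1]) S hth T hJ (fun _ _ => trivial) (fun K _ hKσ hK => by
    have h1 : (1 : Fin 4) ∈ K := hK 1 (by simp)
    have ha : a ∈ K := hK a (by simp)
    have hb : b ∈ K := T.ab ▸ hKσ a ha
    have hc : c ∈ K := T.bc ▸ hKσ b hb
    ext i
    simp only [Set.mem_univ, iff_true]
    rcases out_all a b c T.out i with rfl | rfl | rfl | rfl <;> assumption) (by
    have : ∀ a b c : Fin 4, Out a b c → Red [a, 1] := by decide
    exact this a b c T.out)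
  have h1 : Δ.δ (t.θ z) (t.θ (t.θ z)) = cs.wordProd [b, 1] := by
    rw [t.δ_θ, hz, map_word]
    simp [T.ab, T.one]
  have h2 : Δ.δ (t.θ (t.θ z)) z = cs.wordProd [c, 1] := by
    have h3 : Δ.δ (t.θ (t.θ z)) (t.θ (t.θ (t.θ z))) = cs.wordProd [c, 1] := by
      rw [t.δ_θ, h1, map_word]
      simp [T.bc, T.one]
    rwa [T.θθθ] at h3
  have d : ∀ a b c : Fin 4, Out a b c → Red [a, 1] ∧ Red [b, 1] ∧ Red [c, 1] ∧ Red ([a, 1] ++ [b, 1]) ∧
      Red (([a, 1] ++ [b, 1]) ++ [c, 1]) := by decide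
  obtain ⟨d1, d2, d3, d4, d5⟩ := d a b c T.out
  have h3 := δ_word hz h1 d4 d1 d2
  have h4 := δ_word h3 h2 d5 d4 d3
  rw [Δ.δ_self] at h4
  have h5 := length_word cs d5
  rw [← h4, cs.length_one] at h5
  exact absurd h5 (by simp)

/-- the outer residue is not a minimal invariant residue -/
theorem no_outer (S : Sys Δ G l) (hth : Δ.Thick) (T : TriD t a b c) {y : C} : ¬ t.Gd {a, b, c} y := by
  intro hJ
  obtain ⟨z, -, hz⟩ := no_gd (ω := [a]) S hth T hJ (by simp) (fun K hKJ hKσ hK => by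
    have ha : a ∈ K := hK a (by simp)
    have hb : b ∈ K := T.ab ▸ hKσ a ha
    have hc : c ∈ K := T.bc ▸ hKσ b hb
    refine Set.Subset.antisymm hKJ ?_
    rintro i (rfl | rfl | rfl) <;> assumption) (by
    have : ∀ a : Fin 4, Red [a] := by decide
    exact this a)
  have h1 : Δ.δ (t.θ z) (t.θ (t.θ z)) = cs.wordProd [b] := by
    rw [t.δ_θ, hz, map_word]
    simp [T.ab]
  have h2 : Δ.δ (t.θ (t.θ z)) z = cs.wordProd [c] := by
    have h3 : Δ.δ (t.θ (t.θ z)) (t.θ (t.θ (t.θ z))) = cs.wordProd [c] := by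
      rw [t.δ_θ, h1, map_word]
      simp [T.bc]
    rwa [T.θθθ] at h3
  have d : ∀ a b c : Fin 4, Out a b c → Red [a] ∧ Red [b] ∧ Red [c] ∧ Red ([a] ++ [b]) := by decide
  obtain ⟨d1, d2, d3, d4⟩ := d a b c T.out
  have h3 := δ_word hz h1 d4 d1 d2
  rw [Δ.symm, h2] at h3
  have h4 := congrArg cs.length h3
  rw [cs.length_inv, length_word cs d4, length_word cs d3] at h4
  exact absurd h4 (by simp)

/-- **The type of a minimal invariant residue.** -/
theorem gd_type (S : Sys Δ G l) (hth : Δ.Thick) (T : TriD t a b c) {J : Set (Fin 4)} {y : C} (hJ : t.Gd J y) :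
    J = ∅ ∨ J = {1} := by
  have hst := hJ.st
  have hall := out_all a b c T.out
  by_cases ha : ∃ i ∈ J, i ≠ 1
  · exfalso
    have h3 : a ∈ J ∧ b ∈ J ∧ c ∈ J := by
      obtain ⟨i, hi, hi1⟩ := ha
      rcases hall i with rfl | rfl | rfl | rfl
      · exact absurd rfl hi1
      · have hb := hst _ hi
        rw [T.ab] at hb
        have hc := hst _ hb
        rw [T.bc] at hc
        exact ⟨hi, hb, hc⟩
      · have hc := hst _ hi
        rw [T.bc] at hc
        have ha := hst _ hc
        rw [T.ca] at ha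
        exact ⟨ha, hi, hc⟩
      · have ha := hst _ hi
        rw [T.ca] at ha
        have hb := hst _ ha
        rw [T.ab] at hb
        exact ⟨ha, hb, hi⟩
    by_cases h1 : (1 : Fin 4) ∈ J
    · have : J = Set.univ := by
        ext i
        simp only [Set.mem_univ, iff_true]
        rcases hall i with rfl | rfl | rfl | rfl
        · exact h1
        · exact h3.1
        · exact h3.2.1
        · exact h3.2.2
      rw [this] at hJ
      exact no_univ S hth T hJ
    · have : J = {a, b, c} := by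
        ext i
        constructor
        · intro hi
          rcases hall i with rfl | rfl | rfl | rfl
          · exact absurd hi h1
          · simp
          · simp
          · simp
        · rintro (rfl | rfl | rfl)
          · exact h3.1
          · exact h3.2.1
          · exact h3.2.2
      rw [this] at hJ
      exact no_outer S hth T hJ
  · push Not at ha
    by_cases h1 : (1 : Fin 4) ∈ J
    · right
      ext i
      exact ⟨fun hi => ha i hi, fun hi => by rw [Set.mem_singleton_iff.1 hi]; exact h1⟩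
    · left
      ext i
      simp only [Set.mem_empty_iff_false, iff_false]
      intro hi
      exact h1 (ha i hi ▸ hi)

end Gd

end Cfsg.Agent.H289.Tri
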