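import Cfsg.Agent.H460.Typed

/-!
# Triality in characteristic three: special elements of a node (helper289, task AA-TRI)
-/

set_option autoImplicit false
set_option linter.unusedSectionVars false

namespace Cfsg.Agent.H289.Tri

open Cfsg.Agent.FixBN Cfsg.Agent.FixBN.U3Model Cfsg.Agent.FixBN.UNode Cfsg.Agent.H460.Typed

/-- `s v s B = u s B` and `s v⁻¹ s B = u⁻¹ s B` for elements `u`, `v` of order three -/
def Sn {K : Type*} [Group K] (P : Cfsg.BNPair K) (U : Subgroup K) (s : K) : Prop :=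
  ∃ u ∈ U, ∃ v ∈ U, u * u = u⁻¹ ∧ v * v = v⁻¹ ∧ (u * s)⁻¹ * (s * v * s) ∈ P.B ∧
    (u⁻¹ * s)⁻¹ * (s * v⁻¹ * s) ∈ P.B

variable {K : Type*} [Group K] {P : Cfsg.BNPair K} {U V : Subgroup K} {s : K}

theorem sn_field (hU : IsPGroup 3 U) {F : Type*} [Field F] (N : FieldNode P U s V F) : Sn P U s := by
  have hn : ∀ (k : ℕ) (a : F), N.x (k * a) = N.x a ^ k := by
    intro k a
    induction k with
    | zero => rw [Nat.cast_zero, zero_mul, pow_zero, N.x_zero]
    | succ k ih => rw [Nat.cast_succ, add_mul, one_mul, N.add, ih, pow_succ]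
  have h3 : (3 : F) = 0 := by
    obtain ⟨k, hk⟩ := hU ⟨N.x 1, N.mem 1⟩
    have h1 : N.x 1 ^ 3 ^ k = 1 := by
      have := congrArg Subtype.val hk
      simpa using this
    rw [← hn] at h1
    have h2 := N.ne _ (by rw [h1]; exact one_mem _)
    rw [mul_one, Nat.cast_pow] at h2
    have h5 : ((3 : ℕ) : F) = 0 := eq_zero_of_pow_eq_zero h2
    simpa using h5
  have hx : ∀ a : F, N.x a * N.x a = (N.x a)⁻¹ := by
    intro a
    rw [← N.add, ← N.x_neg]
    congr 1
    linear_combination a * h3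
  refine ⟨N.x 1, N.mem _, N.x (-1), N.mem _, hx _, hx _, ?_, ?_⟩
  · have := N.inv (-1) (by simp)
    simpa using this
  · have := N.inv 1 (by simp)
    rw [N.x_neg, inv_inv, ← N.x_neg]
    simpa using this

theorem sn_u3 (hU : IsPGroup 3 U) {F : Type*} [Field F] {σ : F →+* F} [Inv2 σ] (hσ : ∃ x, σ x ≠ x)
    (N : UNode P U s V σ) : Sn P U s := by
  obtain ⟨x0, hx0⟩ := hσ
  -- a central point
  set β := x0 - σ x0 with hβ
  have hβ0 : β ≠ 0 := sub_ne_zero.2 (Ne.symm hx0)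
  have hβs : σ β = -β := by
    rw [hβ, map_sub, Inv2.invol]; ring
  have hc : ∀ b : F, σ b = -b → b + σ b + 0 * σ 0 = 0 := fun b hb => by rw [hb]; ring
  let q : Pt σ := ⟨0, β, hc β hβs⟩
  have hq1 : q ≠ 1 := fun h => hβ0 (by
    have := congrArg Pt.b h
    simpa [one_b] using this)
  have hpow : ∀ n : ℕ, (q ^ n).a = 0 ∧ (q ^ n).b = n * β := by
    intro n
    induction n with
    | zero => rw [pow_zero]; exact ⟨one_a, by rw [one_b]; simp⟩
    | succ n ih =>
      rw [pow_succ]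
      refine ⟨?_, ?_⟩
      · rw [mul_a, ih.1]
        change (0 : F) + 0 = 0
        ring
      · rw [mul_b, ih.1, ih.2, map_zero]
        change (n : F) * β + β - 0 * 0 = _
        push_cast
        ring
  let X : Pt σ →* K := ⟨⟨N.x, N.x_one⟩, N.mul⟩
  have h3 : (3 : F) = 0 := by
    obtain ⟨k, hk⟩ := hU ⟨N.x q, N.mem q⟩
    have h1 : X q ^ 3 ^ k = 1 := congrArg Subtype.val hk
    rw [← map_pow] at h1
    have h2 := N.ne _ (by
      change X (q ^ 3 ^ k) ∈ V
      rw [h1]; exact one_mem _)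
    have h4 := (hpow (3 ^ k)).2
    rw [h2, one_b] at h4
    have h5 : ((3 ^ k : ℕ) : F) = 0 := by
      rcases mul_eq_zero.1 h4.symm with h | h
      · exact h
      · exact absurd h hβ0
    rw [Nat.cast_pow] at h5
    have h6 : ((3 : ℕ) : F) = 0 := eq_zero_of_pow_eq_zero h5
    simpa using h6
  have hcen : ∀ r : Pt σ, r.a = 0 → X r * X r = (X r)⁻¹ := by
    intro r hr
    rw [← map_mul, ← map_inv]
    congr 1
    have hb := b_eq r
    apply ext'
    · rw [mul_a, inv_a, hr]; ring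
    · rw [mul_b, inv_b, hr, hb, hr]
      simp only [map_zero]
      linear_combination r.b * h3
  have hJa : (J q).a = 0 := by
    rw [J_a hq1]
    change -(0 : F) / _ = 0
    simp
  have hqi : q⁻¹ ≠ 1 := by simpa using hq1
  have hJi : J q⁻¹ = (J q)⁻¹ := by
    apply ext'
    · rw [J_a hqi, inv_a, inv_a, hJa]
      change -(-(0 : F)) / _ = -0
      simp
    · rw [J_b hqi, inv_b, inv_b, J_b hq1, map_div₀, map_one]
  -- `u = x (J q)`, `v = x q`
  refine ⟨X (J q), N.mem _, X q, N.mem _, hcen _ hJa, hcen _ rfl, N.inv q hq1, ?_⟩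
  have h7 := N.inv q⁻¹ hqi
  rw [hJi] at h7
  have e1 : N.x (J q)⁻¹ = (X (J q))⁻¹ := map_inv X _
  have e2 : N.x q⁻¹ = (X q)⁻¹ := map_inv X _
  rwa [e1, e2] at h7

theorem sn_of_lnode (hU : IsPGroup 3 U) {Q : ℕ} (H : LNode P U s Q) : Sn P U s := by
  obtain ⟨V, -, ⟨F, _, _, -, ⟨N⟩⟩ | ⟨F, _, _, σ, _, q, hσ, -, -, ⟨N⟩⟩⟩ := H
  · exact sn_field hU N
  · exact sn_u3 hU hσ N

end Cfsg.Agent.H289.Tri
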