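import Cfsg.Agent.H460.AADef

/-!
# Triality: the cube of `x * x^m` (helper289, task AA-TRI)

`x` an automorphism with `x ^ 3 = 1`: `(x * x^m)^3` is the inner automorphism of `Psi x m`.
-/

set_option autoImplicit false

namespace Cfsg.Agent.H289.Tri

open Cfsg.Agent.H460.AA

variable {K : Type*} [Group K]

/-- the cube of `x * x^m` -/
def Psi (x : MulAut K) (m : K) : K := x m * (x (x m))⁻¹ * m * (x m)⁻¹ * x (x m) * m⁻¹

theorem cube {x : MulAut K} (hx : x ^ 3 = 1) (m : K) :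
    (x * (MulAut.conj m * x * (MulAut.conj m)⁻¹)) ^ 3 = MulAut.conj (Psi x m) := by
  have hc : ∀ k : K, x * MulAut.conj k = MulAut.conj (x k) * x := by
    intro k
    ext y
    simp
  have h3 : x (x (x m)) = m := by
    have := congrArg (fun f : MulAut K => f m) hx
    simpa [pow_succ] using this
  have hci : ∀ k : K, x * (MulAut.conj k)⁻¹ = (MulAut.conj (x k))⁻¹ * x := by
    intro k
    rw [← map_inv, hc, map_inv, map_inv]
  set P := MulAut.conj m with hP
  set Q := MulAut.conj (x m) with hQ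
  set R := MulAut.conj (x (x m)) with hR
  have e1 : x * P = Q * x := hc m
  have e2 : x * Q = R * x := hc (x m)
  have e3 : x * R = P * x := by rw [hR, hc, h3]
  have i1 : x * P⁻¹ = Q⁻¹ * x := hci m
  have i2 : x * Q⁻¹ = R⁻¹ * x := hci (x m)
  have i3 : x * R⁻¹ = P⁻¹ * x := by rw [hR, hci, h3]
  have z1 : x * (P * x * P⁻¹) = Q * R⁻¹ * (x * x) := by
    calc x * (P * x * P⁻¹) = (x * P) * (x * P⁻¹) := by group
      _ = Q * (x * Q⁻¹) * x := by rw [e1, i1]; group
      _ = Q * R⁻¹ * (x * x) := by rw [i2]; group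
  have key : (Q * R⁻¹ * (x * x)) ^ 3 = Q * R⁻¹ * P * Q⁻¹ * R * P⁻¹ * x ^ 6 := by
    have s1 : (x * x) * (Q * R⁻¹) = P * Q⁻¹ * (x * x) := by
      calc (x * x) * (Q * R⁻¹) = x * (x * Q) * R⁻¹ := by group
        _ = (x * R) * (x * R⁻¹) := by rw [e2]; group
        _ = P * (x * P⁻¹) * x := by rw [e3, i3]; group
        _ = P * Q⁻¹ * (x * x) := by rw [i1]; group
    have s2 : (x * x) * (P * Q⁻¹) = R * P⁻¹ * (x * x) := by
      calc (x * x) * (P * Q⁻¹) = x * (x * P) * Q⁻¹ := by group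
        _ = (x * Q) * (x * Q⁻¹) := by rw [e1]; group
        _ = R * (x * R⁻¹) * x := by rw [e2, i2]; group
        _ = R * P⁻¹ * (x * x) := by rw [i3]; group
    calc (Q * R⁻¹ * (x * x)) ^ 3 = Q * R⁻¹ * ((x * x) * (Q * R⁻¹)) * ((x * x) * (Q * R⁻¹)) * (x * x) := by
          rw [pow_succ, pow_succ, pow_one]; group
      _ = Q * R⁻¹ * (P * Q⁻¹) * ((x * x) * (P * Q⁻¹)) * (x * x) * (x * x) := by rw [s1]; group
      _ = Q * R⁻¹ * (P * Q⁻¹) * (R * P⁻¹) * ((x * x) * (x * x) * (x * x)) := by rw [s2]; group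
      _ = _ := by
        have : (x * x) * (x * x) * (x * x) = x ^ 6 := by simp only [pow_succ, pow_zero, one_mul, mul_assoc]
        rw [this]; group
  have h6 : x ^ 6 = 1 := by
    rw [show (6 : ℕ) = 3 * 2 from rfl, pow_mul, hx, one_pow]
  rw [z1, key, h6, mul_one]
  unfold Psi
  simp only [map_mul, map_inv, hP, hQ, hR]

theorem pe_psi {x : MulAut K} (hx : x ^ 3 = 1) (hc : Subgroup.center K = ⊥) (hPA : PA 3 x) (m : K) :
    PE 3 (Psi x m) := by
  have : Fact (Nat.Prime 3) := ⟨Nat.prime_three⟩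
  refine PE.of_injective (f := MulAut.conj) (conj_injective hc) ?_
  have h1 := (hPA m).pow 3
  rwa [cube hx m] at h1

end Cfsg.Agent.H289.Tri
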