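import Cfsg.Agent.H289.Tri.Ell
import Cfsg.Agent.H289.Tri.Psi
import Cfsg.Agent.UGT.U2.FOne.AptE

/-!
# Triality: conjugates of an automorphism, the standard position (helper289, task AA-TRI)
-/

set_option autoImplicit false
set_option linter.unusedSectionVars false

open scoped Pointwise

namespace Cfsg.Agent.H289.Tri

open Cfsg.Agent.Tits.Core Cfsg.Agent.Tits.Core.Bldg Cfsg.Agent.Tits Cfsg.Agent.Nodes
open Cfsg.Agent.FixBN (Sys)
open Cfsg.Agent.FixOdd (Tw)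
open Cfsg.Agent.H460.AA

section Conj

variable {I : Type*} {M : CoxeterMatrix I} {W : Type*} [Group W] {cs : CoxeterSystem M W} {C : Type*}
  {Δ : Bldg cs C} {G : Type*} [Group G] [MulAction G C] {l : ℕ}

/-- the conjugate of `t` by `g` -/
def cj (S : Sys Δ G l) (t : Tw Δ G) (g : G) : Tw Δ G where
  τ := (MulAut.conj g)⁻¹ * t.τ * MulAut.conj g
  θ := (MulAction.toPerm g)⁻¹ * t.θ * MulAction.toPerm g
  φ := t.φ
  σ := t.σ
  φ_simple := t.φ_simple
  δ_θ x y := by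
    change Δ.δ (g⁻¹ • t.θ (g • x)) (g⁻¹ • t.θ (g • y)) = _
    rw [S.iso, t.δ_θ, S.iso]
  θ_smul k x := by
    change g⁻¹ • t.θ (g • k • x) = (g⁻¹ * t.τ (g * k * g⁻¹) * g) • g⁻¹ • t.θ (g • x)
    have h1 : g • k • x = (g * k * g⁻¹) • (g • x) := by
      rw [smul_smul, smul_smul]; congr 1; group
    rw [h1, t.θ_smul, smul_smul, smul_smul]
    congr 1
    group

theorem cj_θ (S : Sys Δ G l) (t : Tw Δ G) (g : G) (x : C) : (cj S t g).θ x = g⁻¹ • t.θ (g • x) := rfl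

theorem cj_τ_pow (S : Sys Δ G l) (t : Tw Δ G) (g : G) (n : ℕ) :
    (cj S t g).τ ^ n = (MulAut.conj g)⁻¹ * t.τ ^ n * MulAut.conj g := by
  change ((MulAut.conj g)⁻¹ * t.τ * MulAut.conj g) ^ n = _
  have := conj_pow (i := n) (a := (MulAut.conj g)⁻¹) (b := t.τ)
  rwa [inv_inv] at this

theorem cj_θ_pow (S : Sys Δ G l) (t : Tw Δ G) (g : G) (n : ℕ) :
    (cj S t g).θ ^ n = (MulAction.toPerm g)⁻¹ * t.θ ^ n * MulAction.toPerm g := by
  change ((MulAction.toPerm g : Equiv.Perm C)⁻¹ * t.θ * MulAction.toPerm g) ^ n = _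
  have := conj_pow (i := n) (a := (MulAction.toPerm g : Equiv.Perm C)⁻¹) (b := t.θ)
  rwa [inv_inv] at this

theorem cj_PA (S : Sys Δ G l) (t : Tw Δ G) (g : G) {p : ℕ} (h : PA p t.τ) : PA p (cj S t g).τ := by
  have h1 := PA_tr (MulAut.conj g⁻¹) h
  have h2 : H459.Rad.tr (MulAut.conj g⁻¹) t.τ = (cj S t g).τ := by
    ext k
    rw [H459.Rad.tr_apply]
    change _ = g⁻¹ * t.τ (g * k * g⁻¹) * g
    simp
  rwa [h2] at h1

end Conj

variable {W : Type*} [Group W] {cs : CoxeterSystem (TypeD.M 2) W} {C : Type*} {Δ : Bldg cs C}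
  {G : Type*} [Group G] [MulAction G C] {l : ℕ} {t : Tw Δ G} {a b c : Fin 4}

theorem TriD.cj (S : Sys Δ G l) (T : TriD t a b c) (g : G) : TriD (cj S t g) a b c where
  out := T.out
  one := T.one
  ab := T.ab
  bc := T.bc
  ca := T.ca
  θ3 := by rw [cj_θ_pow, T.θ3, mul_one, inv_mul_cancel]
  τ3 := by rw [cj_τ_pow, T.τ3, mul_one, inv_mul_cancel]

/-- If `t` fixes a chamber it fixes an opposite one (cross characteristic). -/
theorem exists_opp (S : Sys Δ G l) [hl : Fact l.Prime] [Finite C] [Finite G] [F : OppRes.Cox cs] (hl3 : l ≠ 3)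
    (T : TriD t a b c) {y : C} (hy : t.θ y = y) : ∃ z, Δ.Opp y z ∧ t.θ z = z := by
  have : Fact (Nat.Prime 3) := ⟨Nat.prime_three⟩
  have hφ : t.φ (w0 cs) = w0 cs := FixOdd.Cox.map_wJ t.φ_simple (J := Set.univ) (fun _ _ => trivial)
  let f : {z // Δ.Opp y z} → {z // Δ.Opp y z} := fun z => ⟨t.θ z.1, by
    change Δ.δ y (t.θ z.1) = w0 cs
    have h1 : Δ.δ (t.θ y) (t.θ z.1) = w0 cs := by
      rw [t.δ_θ, show Δ.δ y z.1 = w0 cs from z.2, hφ]
    rwa [hy] at h1⟩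
  have hf : f^[3] = id := by
    funext z
    apply Subtype.ext
    exact T.θθθ z.1
  have hcard : ¬ 3 ∣ Nat.card {z // Δ.Opp y z} := by
    obtain ⟨z0, hz0⟩ := Δ.exists_δ y (w0 cs)
    have h1 : {z | Δ.Opp y z} = MulAction.orbit (S.U y) z0 := by
      ext z
      constructor
      · intro hz
        obtain ⟨u, hu, huz⟩ := S.trans y z0 z hz0 hz
        exact ⟨⟨u, hu⟩, huz⟩
      · rintro ⟨u, rfl⟩
        change Δ.δ y ((u : G) • z0) = w0 cs
        have := S.iso u y z0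
        rw [S.fix y u u.2, hz0] at this
        exact this
    obtain ⟨n, hn⟩ := (S.isP y).card_orbit z0
    have h2 : Nat.card {z // Δ.Opp y z} = l ^ n := by
      have h3 : Nat.card {z | Δ.Opp y z} = l ^ n := by rw [h1, hn]
      exact h3
    rw [h2]
    intro h3
    exact hl3 ((Nat.prime_dvd_prime_iff_eq Nat.prime_three hl.out).1 (Nat.prime_three.dvd_of_dvd_pow h3)).symm
  obtain ⟨z, hz⟩ := Tw.exists_fixed f hf hcard
  exact ⟨z.1, z.2, congrArg Subtype.val hz⟩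

end Cfsg.Agent.H289.Tri
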