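import Cfsg.Agent.H289.Tri.CentA

/-!
# Triality in characteristic three, abstract part (helper289, task AA-TRI)

`θ` fixes the chamber `y0`; `y`, `m1` elements acting on the coordinate `a` of the residue of type `{a, b, c}`.
-/

set_option autoImplicit false
set_option linter.unusedSectionVars false

open scoped Pointwise

namespace Cfsg.Agent.H289.Tri

open CoxeterSystem Cfsg.Agent.ChevalleyStructure.CoxeterGeom Cfsg.Agent.Tits.Roots Cfsg.Agent.Nodes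
  Cfsg.Agent.Tits.Core Cfsg.Agent.Tits.Core.Bldg Cfsg.Agent.Tits Cfsg.Agent.Tits.Exchange
open Cfsg.Agent.FixBN (Sys)
open Cfsg.Agent.FixOdd (Tw)
open Cfsg.Agent.H460.AA

variable {W : Type*} [Group W] {cs : CoxeterSystem (TypeD.M 2) W} {C : Type*} {Δ : Bldg cs C}
  {G : Type*} [Group G] [MulAction G C] {l : ℕ} {t : Tw Δ G} {a b c : Fin 4}

/-- `g` acts on the coordinate `i` of the residue `Q`. -/
def Ty (Δ : Bldg cs C) (Q : Set C) (i : Fin 4) (g : G) : Prop := ∀ d ∈ Q, g • d ∈ Δ.Pan i d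

theorem Ty.stab (S : Sys Δ G l) {J : Set (Fin 4)} {x : C} {i : Fin 4} (hi : i ∈ J) {g : G}
    (h : Ty Δ (Δ.Res J x) i g) : g • Δ.Res J x = Δ.Res J x := by
  rw [S.smul_Res]
  exact Δ.Res_eq_of_mem (Δ.Pan_subset_Res hi _ (h x (Δ.self_mem_Res _ _)))

theorem Ty.τ (T : TriD t a b c) {Q : Set C} (hQ : ∀ d ∈ Q, t.θ d ∈ Q) {i : Fin 4} {g : G} (h : Ty Δ Q i g) :
    Ty Δ Q (t.σ i) (t.τ g) := by
  intro d hd
  have h1 := h _ (hQ _ (hQ _ hd))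
  have h2 : t.θ (g • t.θ (t.θ d)) = t.τ g • d := by rw [t.θ_smul, T.θθθ]
  rw [← h2]
  rcases h1 with h1 | h1
  · left
    rw [h1, T.θθθ]
  · right
    have h3 := t.δ_θ (t.θ (t.θ d)) (g • t.θ (t.θ d))
    rw [h1, t.φ_simple, T.θθθ] at h3
    exact h3

/-- the classes modulo the coordinates in `L` -/
def Cls (Δ : Bldg cs C) (Q : Set C) (L : Set (Fin 4)) : Set (Set C) := {D | ∃ d ∈ Q, D = Δ.Res L d}

theorem smul_cls (S : Sys Δ G l) {Q : Set C} {L : Set (Fin 4)} {g : G} (hg : g • Q = Q) {D : Set C}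
    (hD : D ∈ Cls Δ Q L) : g • D ∈ Cls Δ Q L := by
  obtain ⟨d, hd, rfl⟩ := hD
  refine ⟨g • d, ?_, S.smul_Res g L d⟩
  rw [← hg]
  exact Set.smul_mem_smul_set hd

theorem Ty.cls (S : Sys Δ G l) {Q : Set C} {L : Set (Fin 4)} {i : Fin 4} (hi : i ∈ L) {g : G} (h : Ty Δ Q i g)
    {D : Set C} (hD : D ∈ Cls Δ Q L) : g • D = D := by
  obtain ⟨d, hd, rfl⟩ := hD
  rw [S.smul_Res]
  exact Δ.Res_eq_of_mem (Δ.Pan_subset_Res hi _ (h d hd))

theorem three_false (S : Sys Δ G l) (T : TriD t a b c) {y0 c1 : C} (hθ : t.θ y0 = y0)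
    (h1 : Δ.δ y0 c1 = cs.simple a) {y m1 : G} (hy : Ty Δ (Δ.Res {a, b, c} y0) a y)
    (hm : Ty Δ (Δ.Res {a, b, c} y0) a m1) (hyf : y • y0 = y0) (hmf : m1 • c1 = c1) (e1 : m1 • y • c1 = y0)
    (e2 : m1 • y⁻¹ • c1 = y • c1) (e3 : y • y • c1 = y⁻¹ • c1) (hPE : PE 3 (Psi t.τ (m1 * t.τ y))) : False := by
  obtain ⟨ha1, hb1, hc1, hab, hac, hbc⟩ := T.out
  set Q := Δ.Res {a, b, c} y0 with hQ
  have hQθ : ∀ d ∈ Q, t.θ d ∈ Q := by
    intro d hd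
    have h2 := θ_mem_Res' t (J' := {a, b, c}) (by
      rintro j (rfl | rfl | rfl)
      · rw [T.ab]; simp
      · rw [T.bc]; simp
      · rw [T.ca]; simp) hd
    rwa [hθ] at h2
  have hyb : Ty Δ Q b (t.τ y) := T.ab ▸ hy.τ T hQθ
  have hyc : Ty Δ Q c (t.τ (t.τ y)) := T.bc ▸ hyb.τ T hQθ
  have hmb : Ty Δ Q b (t.τ m1) := T.ab ▸ hm.τ T hQθ
  have hmc : Ty Δ Q c (t.τ (t.τ m1)) := T.bc ▸ hmb.τ T hQθ
  have hτ3 : t.τ (t.τ (t.τ y)) = y := by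
    have := congrArg (fun f : MulAut G => f y) T.τ3
    simpa [pow_succ] using this
  have inv_fix : ∀ {g : G}, (∀ D ∈ Cls Δ Q {b, c}, g • D = D) → ∀ D ∈ Cls Δ Q {b, c}, g⁻¹ • D = D := by
    intro g h D hD
    rw [inv_smul_eq_iff, h D hD]
  have fyb : ∀ D ∈ Cls Δ Q {b, c}, t.τ y • D = D := fun D hD => hyb.cls S (by simp) hD
  have fyc : ∀ D ∈ Cls Δ Q {b, c}, t.τ (t.τ y) • D = D := fun D hD => hyc.cls S (by simp) hD
  have fmb : ∀ D ∈ Cls Δ Q {b, c}, t.τ m1 • D = D := fun D hD => hmb.cls S (by simp) hD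
  have fmc : ∀ D ∈ Cls Δ Q {b, c}, t.τ (t.τ m1) • D = D := fun D hD => hmc.cls S (by simp) hD
  have sy : ∀ D ∈ Cls Δ Q {b, c}, y • D ∈ Cls Δ Q {b, c} := fun D hD => smul_cls S (hy.stab S (by simp)) hD
  have sm : ∀ D ∈ Cls Δ Q {b, c}, m1 • D ∈ Cls Δ Q {b, c} := fun D hD => smul_cls S (hm.stab S (by simp)) hD
  have sy' : ∀ D ∈ Cls Δ Q {b, c}, y⁻¹ • D ∈ Cls Δ Q {b, c} := fun D hD =>
    smul_cls S (by rw [inv_smul_eq_iff, hy.stab S (by simp)]) hD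
  have sm' : ∀ D ∈ Cls Δ Q {b, c}, m1⁻¹ • D ∈ Cls Δ Q {b, c} := fun D hD =>
    smul_cls S (by rw [inv_smul_eq_iff, hm.stab S (by simp)]) hD
  -- the action of `Psi` on the classes
  have hact : ∀ D ∈ Cls Δ Q {b, c}, Psi t.τ (m1 * t.τ y) • D = (y⁻¹ * m1 * y * m1⁻¹) • D := by
    intro D hD
    have d1 := sm' D hD
    have d2 := sy _ d1
    have d3 := sm _ d2
    have d4 := sy' _ d3
    unfold Psi
    simp only [map_mul, mul_inv_rev, mul_smul, hτ3]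
    rw [inv_fix fyb _ d1, fmc _ d2, inv_fix fmb _ d2, inv_fix fyc _ d2, fyb _ d2, inv_fix fmc _ d3, fyc _ d4, fmb _ d4]
  -- the cycle
  set z := y⁻¹ * m1 * y * m1⁻¹ with hz
  have z1 : z • c1 = y0 := by
    rw [hz, mul_smul, mul_smul, mul_smul, inv_smul_eq_iff.2 hmf.symm, e1, inv_smul_eq_iff.2 hyf.symm]
  have z0 : z • y0 = c1 := by
    have h2 : m1⁻¹ • y0 = y • c1 := by rw [inv_smul_eq_iff, e1]
    rw [hz, mul_smul, mul_smul, mul_smul, h2, e3, e2, inv_smul_smul]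
  have hc1Q : c1 ∈ Q := by
    rw [hQ, mem_Res, h1]
    exact simple_mem_WJ cs (by simp)
  have m0 : Δ.Res {b, c} y0 ∈ Cls Δ Q {b, c} := ⟨y0, Δ.self_mem_Res _ _, rfl⟩
  have m1' : Δ.Res {b, c} c1 ∈ Cls Δ Q {b, c} := ⟨c1, hc1Q, rfl⟩
  have p0 : Psi t.τ (m1 * t.τ y) • Δ.Res {b, c} y0 = Δ.Res {b, c} c1 := by
    rw [hact _ m0, S.smul_Res, z0]
  have p1 : Psi t.τ (m1 * t.τ y) • Δ.Res {b, c} c1 = Δ.Res {b, c} y0 := by
    rw [hact _ m1', S.smul_Res, z1]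
  obtain ⟨j, hj⟩ := hPE
  have hodd : Odd (3 ^ j) := Odd.pow (by decide)
  obtain ⟨k, hk⟩ := hodd
  generalize Psi t.τ (m1 * t.τ y) = P at *
  have h2 : P ^ (2 * k + 1) = 1 := by rw [← hk, ← hj]; exact pow_orderOf_eq_one P
  have h3 : ∀ k : ℕ, P ^ (2 * k) • Δ.Res {b, c} y0 = Δ.Res {b, c} y0 := by
    intro k
    induction k with
    | zero => rw [mul_zero, pow_zero, one_smul]
    | succ k ih => rw [Nat.mul_succ, pow_add, pow_two, mul_smul, mul_smul, p0, p1, ih]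
  have h4 := h3 k
  have h5 : Δ.Res {b, c} y0 = Δ.Res {b, c} c1 := by
    have h6 : P ^ (2 * k + 1) • Δ.Res {b, c} y0 = Δ.Res {b, c} c1 := by
      rw [pow_succ', mul_smul, h4, p0]
    rwa [h2, one_smul] at h6
  have h6 : c1 ∈ Δ.Res {b, c} y0 := by rw [h5]; exact Δ.self_mem_Res _ _
  rw [mem_Res, h1] at h6
  -- `s_a` is not in `W_{bc}`
  have h := TypeD.isCartan 2
  have h7 := RootComb.rep_apply_of_mem cs h h6 (Pi.single a 1) (k := a) (by simp [hab, hac])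
  rw [rep_rf cs h] at h7
  have : ∀ a : Fin 4, rf a (Pi.single a 1) a ≠ (Pi.single a 1 : Fin 4 → ℤ) a := by decide
  exact this a h7

end Cfsg.Agent.H289.Tri
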