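import Cfsg.Agent.H289.Tri.CentB
import Cfsg.Agent.H289.Tri.ThreeA
import Cfsg.Agent.H289.Tri.Node3

/-!
# Triality in characteristic three: no fixed chamber (helper289, task AA-TRI)
-/

set_option autoImplicit false
set_option linter.unusedSectionVars false

open scoped Pointwise

namespace Cfsg.Agent.H289.Tri

open CoxeterSystem Cfsg.Agent.ChevalleyStructure.CoxeterGeom Cfsg.Agent.Tits.Roots Cfsg.Agent.Tits.Core
  Cfsg.Agent.Tits.RootComb Cfsg.Agent.Nodes Cfsg.Agent.Nodes.Comb Cfsg.Agent.Nodes.Reps Cfsg.Agent.Nodes.BNOf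
  Cfsg.Agent.Nodes.BNOf.RGD
  Cfsg.Agent.FixBN Cfsg.Agent.Tits.OfBN Cfsg.Agent.Tits.OppRes Cfsg.Agent.LieExceptional.BNPairCore
  Cfsg.Agent.OddHalf.Table.AutBldg Cfsg.Agent.OddHalf.Table.AutRGD Cfsg.Agent.OddHalf.Table.AutNorm
  Cfsg.Agent.Tits Cfsg.Agent.Nodes.RGDLib Cfsg.Agent.UGT.U2.FOne
open Cfsg.Agent.Tits.Core.Bldg Cfsg.Agent.H460.AA

section Bl

variable {W : Type*} [Group W] {cs : CoxeterSystem (TypeD.M 2) W} {C : Type*} {Δ : Bldg cs C}
  {G : Type*} [Group G] [MulAction G C] {l : ℕ} {a b c : Fin 4}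

theorem comm_out {a b : Fin 4} (ha : a ≠ 1) (hb : b ≠ 1) (hab : a ≠ b) :
    cs.simple a * cs.simple b = cs.simple b * cs.simple a := by
  have h1 := cs.simple_mul_simple_pow a b
  rw [M_eq, if_neg hab, if_neg (by simp [ha, hb]), pow_two] at h1
  have h2 := eq_inv_of_mul_eq_one_left h1
  rw [h2, mul_inv_rev, cs.inv_simple, cs.inv_simple]

theorem mem_abc (hout : Out a b c) {w : W} (hw : w ∈ WJ cs {a, b, c}) :
    ∃ v ∈ WJ cs {b, c}, w = v ∨ w = v * cs.simple a := by
  obtain ⟨ha1, hb1, hc1, hab, hac, hbc⟩ := hout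
  obtain ⟨ω, hω, rfl⟩ := Tits.Exchange.exists_word_of_mem_WJ cs hw
  clear hw
  induction ω using List.reverseRecOn with
  | nil => exact ⟨1, one_mem _, Or.inl cs.wordProd_nil⟩
  | append_singleton ω j ih =>
    obtain ⟨v, hv, h1⟩ := ih fun i hi => hω i (by simp [hi])
    have hj : j = a ∨ j = b ∨ j = c := hω j (by simp)
    rw [cs.wordProd_append, cs.wordProd_singleton]
    have key : (j = b ∨ j = c) → ∃ v ∈ WJ cs {b, c}, cs.wordProd ω * cs.simple j = v ∨
        cs.wordProd ω * cs.simple j = v * cs.simple a := by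
      intro hj
      have hcomm : cs.simple a * cs.simple j = cs.simple j * cs.simple a := by
        rcases hj with rfl | rfl
        · exact comm_out ha1 hb1 hab
        · exact comm_out ha1 hc1 hac
      have hm : v * cs.simple j ∈ WJ cs {b, c} := mul_mem hv (Tits.Exchange.simple_mem_WJ cs (by simpa using hj))
      refine ⟨_, hm, ?_⟩
      rcases h1 with h1 | h1
      · left; rw [h1]
      · right; rw [h1, mul_assoc, hcomm, mul_assoc]
    rcases hj with rfl | hj
    · rcases h1 with h1 | h1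
      · exact ⟨v, hv, Or.inr (by rw [h1])⟩
      · exact ⟨v, hv, Or.inl (by rw [h1, mul_assoc, cs.simple_mul_simple_self, mul_one])⟩
    · exact key hj

/-- an element fixing the residue of type `{b, c}` acts on the coordinate `a` -/
theorem ty_of_fix (S : Sys Δ G l) (hout : Out a b c) {x : C} {g : G} (hfix : ∀ z ∈ Δ.Res {b, c} x, g • z = z) :
    Ty Δ (Δ.Res {a, b, c} x) a g := by
  intro d hd
  have h := TypeD.isCartan 2
  obtain ⟨v, hv, h1⟩ := mem_abc hout (Δ.mem_Res.1 hd)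
  have key : ∃ q ∈ Δ.Res {b, c} x, d ∈ Δ.Pan a q := by
    rcases h1 with h1 | h1
    · exact ⟨d, by rw [mem_Res, h1]; exact hv, Δ.self_mem_Pan _ _⟩
    · have hl : cs.length (v * cs.simple a) = cs.length v + cs.length (cs.simple a) := by
        have h2 : cs.length v < cs.length (v * cs.simple a) := by
          rw [lt_iff' cs h]
          refine StabComb.nonneg_of_pos_apply (cs := cs) (h := h) (k := a) ⟨v, a, rfl⟩ ?_
          have h3 := RootComb.rep_apply_of_mem cs h hv (Pi.single a 1) (k := a) (by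
            simp [hout.2.2.2.1, hout.2.2.2.2.1])
          change 0 < rep cs h v (Pi.single a 1) a
          rw [h3]
          simp
        have h3 := cs.length_mul_simple v a
        rw [cs.length_simple]
        omega
      obtain ⟨q, hq1, hq2⟩ := Δ.exists_between h1 hl
      exact ⟨q, by rw [mem_Res, hq1]; exact hv, Or.inr hq2⟩
  obtain ⟨q, hq, hdq⟩ := key
  rw [Δ.Pan_eq_of_mem hdq]
  have h2 := hfix q hq
  rcases hdq with h3 | h3
  · rw [h3, h2]; exact Δ.self_mem_Pan _ _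
  · right
    have := S.iso g q d
    rwa [h2, h3] at this

end Bl

variable {W Y : Type*} [Group W] [Group Y]
  {cs : CoxeterSystem (TypeD.M 2) W} {A : Fin 4 → Fin 4 → ℤ} {h : IsCartan (TypeD.M 2) A} {l : ℕ}
  {T : Subgroup Y} {n : Fin 4 → Y} {X : (Fin 4 → ℤ) → Subgroup Y} [Finite W]

variable {R : RGD cs h l T n X} {hgen : B cs h T X ⊔ NN cs R.nsys = ⊤}
  [hN : (((R.bnPair hgen).B ⊓ (R.bnPair hgen).N).subgroupOf (R.bnPair hgen).N).Normal]
  (cs' : CoxeterSystem (TypeD.M 2) (WP (R.bnPair hgen)))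
  (hcs : ∀ i, cs'.simple i = QuotientGroup.mk
    (⟨(eS R hgen i : Y), (R.bnPair hgen).subset (eS R hgen i).2⟩ : (R.bnPair hgen).N))

/-- **No fixed chamber in characteristic three.** -/
theorem no_fixed_three [Fact l.Prime] [Finite Y] (hcore : (B cs h T X).normalCore = ⊥)
    (hc : Subgroup.center Y = ⊥) {t : FixOdd.Tw (Bl R hgen cs' hcs) Y} {a b c : Fin 4}
    (D : TriD t a b c) (hPA : PA 3 t.τ) (hSn : Sn (R.bnPair hgen) (Sup X (Pos cs h)) (n a))
    {y : Y ⧸ (R.bnPair hgen).B} (hy : t.θ y = y) : False := by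
  have hW : Finite (WP (R.bnPair hgen)) := inferInstance
  have hC : Cox cs := inferInstance
  have hC' : Cox cs' := inferInstance
  have hth : (Bl R hgen cs' hcs).Thick := thick (R.bnPair hgen) (eS R hgen) cs' hcs
  set S := Sy R hgen cs' hcs hcore with hS
  -- standard position
  obtain ⟨g, rfl⟩ := QuotientGroup.mk_surjective y
  have D' := D.cj S g
  have hPA' := cj_PA S t g hPA
  have e1 : (cj S t g).θ (ch R hgen 1) = ch R hgen 1 := by
    rw [cj_θ, smul_ch, mul_one, hy, smul_ch, inv_mul_cancel]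
  generalize cj S t g = u at *
  obtain ⟨ha1, hb1, hc1, hab, hac, hbc⟩ := D'.out
  have ra := rp_simple cs R.nsys a
  set c0 := ch R hgen 1 with hc0
  set c1 := ch R hgen (n a) with hc1'
  have h01 : (Bl R hgen cs' hcs).δ c0 c1 = cs'.simple a := by
    rw [δ_rp R hgen cs' hcs rp_one ra, inv_one, one_mul, fw_simple]
  obtain ⟨u0, hu0, v0, hv0, hu3, hv3, k1, k2⟩ := hSn
  have s1 : ch R hgen (u0 * n a) = ch R hgen (n a * v0 * n a) := (FixBN.OfBN.mk_eq).2 k1
  have s2 : ch R hgen (u0⁻¹ * n a) = ch R hgen (n a * v0⁻¹ * n a) := (FixBN.OfBN.mk_eq).2 k2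
  -- replace the elements by elements of the root group
  have hpan : ∀ w ∈ Sup X (PosNe cs h a), ∀ d ∈ (Bl R hgen cs' hcs).Pan a c0, w • d = d := by
    intro w hw
    have hwU : w ∈ S.U c0 := by
      rw [mem_Sy, inv_one, one_mul, mul_one]
      exact Sup_mono (S := PosNe cs h a) (S' := Pos cs h) (fun z hz => ⟨hz.1, hz.2.1⟩) hw
    have hw1 : w ∈ S.U c1 := by
      rw [mem_Sy]
      exact Sup_mono (S := PosNe cs h a) (S' := Pos cs h) (fun z hz => ⟨hz.1, hz.2.1⟩) (NodeRGD.conj_V_mem R a hw)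
    exact S.pan _ c1 a h01 w hwU (S.fix _ _ hw1)
  have hrep : ∀ u ∈ Sup X (Pos cs h), ∃ y ∈ X (sr a), ∀ d ∈ (Bl R hgen cs' hcs).Pan a c0,
      u • d = y • d ∧ u⁻¹ • d = y⁻¹ • d := by
    intro u hu
    obtain ⟨y, hy, hv⟩ := FieldRGD.exists_cover R a hu
    have hyc : y • c0 = c0 := X_smul_ch R hgen rp_one (isRoot_sr cs h a) (by
      rw [inv_one, map_one, Module.End.one_apply]; exact sr_nonneg a) hy
    have h1 : u = y * (y⁻¹ * u) := by group
    have h2 : u⁻¹ = (y⁻¹ * u)⁻¹ * y⁻¹ := by group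
    refine ⟨y, hy, fun d hd => ⟨?_, ?_⟩⟩
    · conv_lhs => rw [h1]
      rw [mul_smul, hpan _ hv d hd]
    · rw [h2, mul_smul]
      refine hpan _ (inv_mem hv) _ ?_
      rcases hd with hd | hd
      · left; rw [hd, inv_smul_eq_iff, hyc]
      · right
        have h3 := S.iso y⁻¹ c0 d
        rwa [inv_smul_eq_iff.2 hyc.symm, hd] at h3
  obtain ⟨y, hy, hyd⟩ := hrep u0 hu0
  obtain ⟨β, hβ, hβd⟩ := hrep v0 hv0
  have hc1P : c1 ∈ (Bl R hgen cs' hcs).Pan a c0 := Or.inr h01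
  have hstab : ∀ {g : Y}, g ∈ X (sr a) → g • c0 = c0 := fun {g} hg =>
    X_smul_ch R hgen rp_one (isRoot_sr cs h a) (by
      rw [inv_one, map_one, Module.End.one_apply]; exact sr_nonneg a) hg
  have hP : ∀ {g : Y}, g ∈ X (sr a) → g • c1 ∈ (Bl R hgen cs' hcs).Pan a c0 := fun {g} hg => by
    right
    have h3 := S.iso g c0 c1
    rwa [hstab hg, h01] at h3
  have hnc : n a • c0 = c1 := by rw [hc0, hc1', smul_ch, mul_one]
  have hnc' : (n a)⁻¹ • c1 = c0 := inv_smul_eq_iff.2 hnc.symm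
  -- the relations
  have r1 : y • c1 = n a • β • c1 := by
    rw [← (hyd c1 hc1P).1, ← (hβd c1 hc1P).1, hc1', smul_ch, smul_ch, smul_ch, s1]
    congr 1
    group
  have r2 : y⁻¹ • c1 = n a • β⁻¹ • c1 := by
    rw [← (hyd c1 hc1P).2, ← (hβd c1 hc1P).2, hc1', smul_ch, smul_ch, smul_ch, s2]
    congr 1
    group
  have r3 : β⁻¹ • β⁻¹ • c1 = β • c1 := by
    rw [← (hβd _ (hP (inv_mem hβ))).2, ← (hβd c1 hc1P).2, smul_smul, ← (hβd c1 hc1P).1, ← mul_inv_rev, hv3,
      inv_inv]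
  have r4 : y • y • c1 = y⁻¹ • c1 := by
    rw [← (hyd _ (hP hy)).1, ← (hyd c1 hc1P).1, smul_smul, ← (hyd c1 hc1P).2, hu3]
  have hss : n a • c1 = c0 := by
    rw [hc0, hc1', smul_ch]
    refine (FixBN.OfBN.mk_eq).2 ?_
    have := inv_mem ((R.bnPair hgen).sq_mem (n a) ⟨a, rfl⟩)
    simpa using this
  -- conclusion
  refine three_false S D' (y0 := c0) (c1 := c1) (y := y) (m1 := n a * β⁻¹ * (n a)⁻¹) e1 h01 ?_ ?_ (hstab hy)
    ?_ ?_ ?_ r4 (pe_psi D'.τ3 hc hPA' _)
  · refine ty_of_fix S D'.out ?_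
    refine X_fix_res R hgen cs' hcs hcore rp_one (isRoot_sr cs h a) (j := a) ?_ (by simp [hab, hac]) ?_ hy
    · rw [inv_one, map_one, Module.End.one_apply]; exact sr_nonneg a
    · rw [inv_one, map_one, Module.End.one_apply]
      simp [sr]
  · have h1 : (Bl R hgen cs' hcs).Res {a, b, c} c0 = (Bl R hgen cs' hcs).Res {a, b, c} c1 := by
      refine (Bldg.Res_eq_of_mem _ ?_).symm
      rw [Bldg.mem_Res, h01]
      exact Tits.Exchange.simple_mem_WJ cs' (by simp)
    rw [h1]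
    refine ty_of_fix S D'.out ?_
    have h2 : n a * β⁻¹ * (n a)⁻¹ ∈ X (-sr a) := by
      have := R.conj_mem ra (isRoot_sr cs h a) (inv_mem hβ)
      rwa [rep_simple_sr] at this
    refine X_fix_res R hgen cs' hcs hcore ra (isRoot_sr cs h a).neg (j := a) ?_ (by simp [hab, hac]) ?_ h2
    · rw [cs.inv_simple, map_neg, rep_simple_sr, neg_neg]; exact sr_nonneg a
    · rw [cs.inv_simple, map_neg, rep_simple_sr, neg_neg]
      simp [sr]
  · rw [mul_smul, mul_smul, hnc', hstab (inv_mem hβ), hnc]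
  · rw [r1, mul_smul, mul_smul, inv_smul_smul, inv_smul_smul, hss]
  · rw [r2, mul_smul, mul_smul, inv_smul_smul, r3, r1]

end Cfsg.Agent.H289.Tri
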